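import Mathlib
import Cfsg.Agent.S1140

/-!
# Monomial lemma for equivariant biadditive maps on a finite field of characteristic 2

A biadditive map `b : F → F → F` with `b (μ x) (λ y) = λ b x y` for primitive `μ, λ`
is a single monomial `C σ(x) τ(y)` with `σ, τ` field automorphisms.
-/

set_option autoImplicit false

namespace Cfsg.Agent.Lib.PGroup.SuzukiTwo

theorem two_pow_add_eq : ∀ {a b c d : ℕ}, 2 ^ a + 2 ^ b = 2 ^ c + 2 ^ d →
    (a = c ∧ b = d) ∨ (a = d ∧ b = c) := by
  intro a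
  induction a with
  | zero =>
    intro b c d h
    rcases Nat.eq_zero_or_pos b with rfl | hb
    · -- `2 = 2^c + 2^d`
      have h1 : 1 ≤ 2 ^ c := Nat.one_le_two_pow
      have h2 : 1 ≤ 2 ^ d := Nat.one_le_two_pow
      simp only [pow_zero] at h
      have hc : 2 ^ c = 1 := by omega
      have hd : 2 ^ d = 1 := by omega
      have hc' : c = 0 := by
        by_contra hne
        obtain ⟨k, rfl⟩ := Nat.exists_eq_succ_of_ne_zero hne
        rw [pow_succ] at hc
        omega
      have hd' : d = 0 := by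
        by_contra hne
        obtain ⟨k, rfl⟩ := Nat.exists_eq_succ_of_ne_zero hne
        rw [pow_succ] at hd
        omega
      left; exact ⟨hc'.symm, hd'.symm⟩
    · obtain ⟨b', rfl⟩ : ∃ b', b = b' + 1 := ⟨b - 1, by omega⟩
      simp only [pow_zero] at h
      rw [pow_succ] at h
      rcases Nat.eq_zero_or_pos c with rfl | hc
      · simp only [pow_zero] at h
        have : 2 ^ (b' + 1) = 2 ^ d := by rw [pow_succ]; omega
        have := Nat.pow_right_injective (le_refl 2) this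
        left; exact ⟨rfl, this⟩
      · rcases Nat.eq_zero_or_pos d with rfl | hd
        · simp only [pow_zero] at h
          have : 2 ^ (b' + 1) = 2 ^ c := by rw [pow_succ]; omega
          have := Nat.pow_right_injective (le_refl 2) this
          right; exact ⟨rfl, this⟩
        · exfalso
          obtain ⟨c', rfl⟩ : ∃ c', c = c' + 1 := ⟨c - 1, by omega⟩
          obtain ⟨d', rfl⟩ : ∃ d', d = d' + 1 := ⟨d - 1, by omega⟩
          rw [pow_succ, pow_succ] at h
          omega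
  | succ a ih =>
    intro b c d h
    rcases Nat.eq_zero_or_pos b with rfl | hb
    · -- `2^(a+1) + 1`
      simp only [pow_zero] at h
      rw [pow_succ] at h
      rcases Nat.eq_zero_or_pos c with rfl | hc
      · simp only [pow_zero] at h
        have : 2 ^ (a + 1) = 2 ^ d := by rw [pow_succ]; omega
        have := Nat.pow_right_injective (le_refl 2) this
        right; exact ⟨this, rfl⟩
      · rcases Nat.eq_zero_or_pos d with rfl | hd
        · simp only [pow_zero] at h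
          have : 2 ^ (a + 1) = 2 ^ c := by rw [pow_succ]; omega
          have := Nat.pow_right_injective (le_refl 2) this
          left; exact ⟨this, rfl⟩
        · exfalso
          obtain ⟨c', rfl⟩ : ∃ c', c = c' + 1 := ⟨c - 1, by omega⟩
          obtain ⟨d', rfl⟩ : ∃ d', d = d' + 1 := ⟨d - 1, by omega⟩
          rw [pow_succ, pow_succ] at h
          omega
    · obtain ⟨b', rfl⟩ : ∃ b', b = b' + 1 := ⟨b - 1, by omega⟩
      rcases Nat.eq_zero_or_pos c with rfl | hc
      · exfalso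
        rcases Nat.eq_zero_or_pos d with rfl | hd
        · simp only [pow_zero] at h
          rw [pow_succ, pow_succ] at h
          have h1 : 1 ≤ 2 ^ a := Nat.one_le_two_pow
          have h2 : 1 ≤ 2 ^ b' := Nat.one_le_two_pow
          omega
        · obtain ⟨d', rfl⟩ : ∃ d', d = d' + 1 := ⟨d - 1, by omega⟩
          simp only [pow_zero] at h
          rw [pow_succ, pow_succ, pow_succ] at h
          omega
      · obtain ⟨c', rfl⟩ : ∃ c', c = c' + 1 := ⟨c - 1, by omega⟩
        rcases Nat.eq_zero_or_pos d with rfl | hd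
        · exfalso
          simp only [pow_zero] at h
          rw [pow_succ, pow_succ, pow_succ] at h
          omega
        · obtain ⟨d', rfl⟩ : ∃ d', d = d' + 1 := ⟨d - 1, by omega⟩
          rw [pow_succ, pow_succ, pow_succ, pow_succ] at h
          have h' : 2 ^ a + 2 ^ b' = 2 ^ c' + 2 ^ d' := by omega
          rcases ih h' with ⟨h1, h2⟩ | ⟨h1, h2⟩
          · left; omega
          · right; omega

section Field

variable {F : Type*} [Field F] [Fintype F] [CharP F 2]

/-- `a` generates the multiplicative group of `F`. -/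
def IsPrim (a : F) : Prop := ∀ x : F, x ≠ 0 → ∃ n : ℕ, x = a ^ n

omit [CharP F 2] in
theorem IsPrim.ne_zero {a : F} (h : IsPrim a) (h3 : 3 ≤ Fintype.card F) : a ≠ 0 := by
  classical
  rintro rfl
  -- every nonzero element is `1`
  have h1 : ∀ x : F, x = 0 ∨ x = 1 := by
    intro x
    by_cases hx : x = 0
    · exact Or.inl hx
    · obtain ⟨n, hn⟩ := h x hx
      rcases Nat.eq_zero_or_pos n with rfl | hn'
      · right; simpa using hn
      · left; rw [hn, zero_pow (by omega)]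
  have : Fintype.card F ≤ 2 := by
    have : (Finset.univ : Finset F) ⊆ {0, 1} := by
      intro x _
      rcases h1 x with h | h <;> simp [h]
    calc Fintype.card F = (Finset.univ : Finset F).card := rfl
      _ ≤ ({0, 1} : Finset F).card := Finset.card_le_card this
      _ ≤ 2 := Finset.card_le_two
  omega

omit [CharP F 2] in
theorem IsPrim.orderOf_eq {a : F} (h : IsPrim a) (h3 : 3 ≤ Fintype.card F) :
    orderOf a = Fintype.card F - 1 := by
  classical
  have h0 := h.ne_zero h3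
  let u : Fˣ := Units.mk0 a h0
  have hu : ∀ v : Fˣ, v ∈ Subgroup.zpowers u := by
    intro v
    obtain ⟨n, hn⟩ := h v v.ne_zero
    refine ⟨n, ?_⟩
    ext
    simp [u, hn]
  have h1 := orderOf_eq_card_of_forall_mem_zpowers hu
  rw [Nat.card_eq_fintype_card, Fintype.card_units] at h1
  rw [← h1]
  exact orderOf_units (y := u)

omit [CharP F 2] in
theorem IsPrim.pow_modEq {a : F} (h : IsPrim a) (h3 : 3 ≤ Fintype.card F) {A B : ℕ}
    (hAB : a ^ A = a ^ B) : A ≡ B [MOD (Fintype.card F - 1)] := by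
  classical
  have h0 := h.ne_zero h3
  let u : Fˣ := Units.mk0 a h0
  have h1 : u ^ A = u ^ B := by
    ext
    simpa [u] using hAB
  have h2 := pow_eq_pow_iff_modEq.mp h1
  have h3' : orderOf u = Fintype.card F - 1 := by
    rw [← h.orderOf_eq h3]
    exact (orderOf_units (y := u)).symm
  rwa [h3'] at h2

omit [CharP F 2] in
theorem pow_two_pow_card {m : ℕ} (hm : Fintype.card F = 2 ^ m) (x : F) (i : ℕ) :
    x ^ (2 ^ (m * i)) = x := by
  induction i with
  | zero => simp
  | succ i ih =>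
    have : 2 ^ (m * (i + 1)) = 2 ^ (m * i) * 2 ^ m := by
      rw [mul_add, mul_one, pow_add]
    rw [this, pow_mul, ih, ← hm, FiniteField.pow_card]

omit [CharP F 2] in
theorem pow_two_pow_mod {m : ℕ} (hm : Fintype.card F = 2 ^ m) (x : F) (i : ℕ) :
    x ^ (2 ^ i) = x ^ (2 ^ (i % m)) := by
  conv_lhs => rw [← Nat.div_add_mod i m]
  rw [pow_add, mul_comm (2 ^ (m * (i / m))), pow_mul, pow_two_pow_card hm]

/-- Every automorphism of `F` is a power of Frobenius. -/
theorem aut_eq_pow {m : ℕ} (hm : Fintype.card F = 2 ^ m) (hm0 : m ≠ 0) (σ : F ≃+* F) :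
    ∃ i, i < m ∧ ∀ x, σ x = x ^ (2 ^ i) := by
  classical
  let _ : Algebra (ZMod 2) F := ZMod.algebra F 2
  let σ' : F ≃ₐ[ZMod 2] F := AlgEquiv.ofRingEquiv (f := σ) (by
    intro r
    have : ((σ : F →+* F).comp (algebraMap (ZMod 2) F)) = algebraMap (ZMod 2) F :=
      Subsingleton.elim _ _
    exact congrArg (fun f : ZMod 2 →+* F => f r) this)
  obtain ⟨n, hn⟩ := (FiniteField.bijective_frobeniusAlgEquivOfAlgebraic_pow (ZMod 2) F).2 σ'
  refine ⟨n.1 % m, Nat.mod_lt _ (Nat.pos_of_ne_zero hm0), ?_⟩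
  intro x
  rw [← pow_two_pow_mod hm]
  have h1 : σ x = σ' x := rfl
  rw [h1]
  simp only at hn
  rw [← hn]
  have h2 := FiniteField.coe_frobeniusAlgEquivOfAlgebraic_iterate (ZMod 2) F n.1
  have h3 := congrFun h2 x
  simp only [ZMod.card] at h3
  rw [← h3]
  rw [AlgEquiv.coe_pow]

theorem aut_comm {m : ℕ} (hm : Fintype.card F = 2 ^ m) (hm0 : m ≠ 0) (σ τ : F ≃+* F) (x : F) :
    σ (τ x) = τ (σ x) := by
  obtain ⟨i, -, hi⟩ := aut_eq_pow hm hm0 σ
  obtain ⟨j, -, hj⟩ := aut_eq_pow hm hm0 τ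
  rw [hi, hj, hi, hj, ← pow_mul, ← pow_mul, mul_comm]

/-- Uniqueness of the representation of an exponent as a sum of two powers of 2. -/
theorem two_pow_field {m : ℕ} (hm : Fintype.card F = 2 ^ m) (hm0 : m ≠ 0)
    (h3 : 3 ≤ Fintype.card F) {a : F} (ha : IsPrim a) {σ₁ σ₂ σ₃ σ₄ : F ≃+* F}
    (h : σ₁ a * σ₂ a = σ₃ a * σ₄ a) : (σ₁ = σ₃ ∧ σ₂ = σ₄) ∨ (σ₁ = σ₄ ∧ σ₂ = σ₃) := by
  obtain ⟨i₁, hi₁, h₁⟩ := aut_eq_pow hm hm0 σ₁
  obtain ⟨i₂, hi₂, h₂⟩ := aut_eq_pow hm hm0 σ₂
  obtain ⟨i₃, hi₃, h₃⟩ := aut_eq_pow hm hm0 σ₃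
  obtain ⟨i₄, hi₄, h₄⟩ := aut_eq_pow hm hm0 σ₄
  have hpow : a ^ (2 ^ i₁ + 2 ^ i₂) = a ^ (2 ^ i₃ + 2 ^ i₄) := by
    rw [pow_add, pow_add, ← h₁, ← h₂, ← h₃, ← h₄, h]
  have hmod := ha.pow_modEq h3 hpow
  rw [hm] at hmod
  have hle : ∀ i, i < m → 2 * 2 ^ i ≤ 2 ^ m := by
    intro i hi
    calc 2 * 2 ^ i = 2 ^ (i + 1) := by rw [pow_succ]; ring
      _ ≤ 2 ^ m := Nat.pow_le_pow_right (by norm_num) hi
  have hge : ∀ i : ℕ, 1 ≤ 2 ^ i := fun i => Nat.one_le_two_pow
  have l1 := hle i₁ hi₁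
  have l2 := hle i₂ hi₂
  have l3 := hle i₃ hi₃
  have l4 := hle i₄ hi₄
  have g1 := hge i₁
  have g2 := hge i₂
  have g3 := hge i₃
  have g4 := hge i₄
  have hpos : 3 ≤ 2 ^ m := by rw [← hm]; exact h3
  have heq : 2 ^ i₁ + 2 ^ i₂ = 2 ^ i₃ + 2 ^ i₄ := by
    have hmod' : (2 ^ i₁ + 2 ^ i₂ - 2) ≡ (2 ^ i₃ + 2 ^ i₄ - 2) [MOD (2 ^ m - 1)] := by
      have e1 : 2 ^ i₁ + 2 ^ i₂ = (2 ^ i₁ + 2 ^ i₂ - 2) + 2 := by omega
      have e2 : 2 ^ i₃ + 2 ^ i₄ = (2 ^ i₃ + 2 ^ i₄ - 2) + 2 := by omega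
      rw [e1, e2] at hmod
      exact Nat.ModEq.add_right_cancel' 2 hmod
    have := Nat.ModEq.eq_of_lt_of_lt hmod' (by omega) (by omega)
    omega
  have himpl : ∀ {σ τ : F ≃+* F} {i j : ℕ}, (∀ x, σ x = x ^ (2 ^ i)) → (∀ x, τ x = x ^ (2 ^ j)) →
      i = j → σ = τ := by
    intro σ τ i j hσ hτ hij
    ext x
    rw [hσ, hτ, hij]
  rcases two_pow_add_eq heq with ⟨e1, e2⟩ | ⟨e1, e2⟩
  · left; exact ⟨himpl h₁ h₃ e1, himpl h₂ h₄ e2⟩
  · right; exact ⟨himpl h₁ h₄ e1, himpl h₂ h₃ e2⟩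

omit [CharP F 2] in
theorem IsPrim.ne_one {a : F} (h : IsPrim a) (h3 : 3 ≤ Fintype.card F) : a ≠ 1 := by
  classical
  rintro rfl
  have h1 : ∀ x : F, x = 0 ∨ x = 1 := by
    intro x
    by_cases hx : x = 0
    · exact Or.inl hx
    · obtain ⟨n, hn⟩ := h x hx
      right; simpa using hn
  have : Fintype.card F ≤ 2 := by
    have : (Finset.univ : Finset F) ⊆ {0, 1} := by
      intro x _
      rcases h1 x with h | h <;> simp [h]
    calc Fintype.card F = (Finset.univ : Finset F).card := rfl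
      _ ≤ ({0, 1} : Finset F).card := Finset.card_le_card this
      _ ≤ 2 := Finset.card_le_two
  omega

/-- The weight relation `σ μ * τ λ = λ` has at most one solution. -/
theorem weight_uniq {m : ℕ} (hm : Fintype.card F = 2 ^ m) (hm0 : m ≠ 0)
    (h3 : 3 ≤ Fintype.card F) {μ l : F} (hμ : IsPrim μ) (hl : IsPrim l)
    {σ τ σ' τ' : F ≃+* F} (h : σ μ * τ l = l) (h' : σ' μ * τ' l = l) : σ = σ' ∧ τ = τ' := by
  have hμ0 := hμ.ne_zero h3
  have e1 : σ' (σ μ) * σ' (τ l) = σ' l := by rw [← map_mul, h]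
  have e2 : σ (σ' μ) * σ (τ' l) = σ l := by rw [← map_mul, h']
  have hw : σ' (σ μ) ≠ 0 := by simpa using hμ0
  have e3 : (τ.trans σ') l * σ l = (τ'.trans σ) l * σ' l := by
    have e4 : σ (σ' μ) = σ' (σ μ) := aut_comm hm hm0 _ _ _
    rw [e4] at e2
    apply mul_left_cancel₀ hw
    show σ' (σ μ) * (σ' (τ l) * σ l) = σ' (σ μ) * (σ (τ' l) * σ' l)
    calc σ' (σ μ) * (σ' (τ l) * σ l) = (σ' (σ μ) * σ' (τ l)) * σ l := by ring
      _ = σ' l * σ l := by rw [e1]
      _ = (σ' (σ μ) * σ (τ' l)) * σ' l := by rw [e2]; ring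
      _ = _ := by ring
  rcases two_pow_field hm hm0 h3 hl e3 with ⟨e5, e6⟩ | ⟨e5, e6⟩
  · have hσ : σ = σ' := e6
    subst hσ
    refine ⟨rfl, ?_⟩
    ext x
    have := congrArg (fun f : F ≃+* F => f x) e5
    simpa using this
  · exfalso
    -- `τ = 1`
    have hτ : τ = RingEquiv.refl F := by
      ext x
      have := congrArg (fun f : F ≃+* F => f x) e5
      simpa using this
    rw [hτ] at h
    have hl0 := hl.ne_zero h3
    have h1 : σ μ = 1 := by
      have : σ μ * l = 1 * l := by simpa using h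
      exact mul_right_cancel₀ hl0 this
    have h2 : μ = 1 := by
      have : σ μ = σ 1 := by simpa using h1
      exact σ.injective this
    exact hμ.ne_one h3 h2

/-- The maps `(x, y) ↦ σ x * τ y` as monoid homomorphisms. -/
def pairHom (p : (F ≃+* F) × (F ≃+* F)) : F × F →* F where
  toFun z := p.1 z.1 * p.2 z.2
  map_one' := by simp
  map_mul' x y := by simp; ring

omit [Fintype F] [CharP F 2] in
theorem pair_indep :
    LinearIndependent F (fun p : (F ≃+* F) × (F ≃+* F) => ((pairHom p : F × F →* F) : F × F → F)) := by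
  have h := (linearIndependent_monoidHom (F × F) F).comp
    (fun p : (F ≃+* F) × (F ≃+* F) => (pairHom p : F × F →* F)) (by
      intro a b hab
      have h1 : a.1 = b.1 := by
        ext x
        have := congrArg (fun f : F × F →* F => f (x, 1)) hab
        simpa [pairHom] using this
      have h2 : a.2 = b.2 := by
        ext x
        have := congrArg (fun f : F × F →* F => f (1, x)) hab
        simpa [pairHom] using this
      exact Prod.ext h1 h2)
  exact h

/-- Expansion of an equivariant biadditive map. -/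
theorem expand_weights [Fintype (F ≃+* F)] (α β γ : F) (b : F →+ F →+ F)
    (h : ∀ x y, b (α * x) (β * y) = γ * b x y) :
    ∃ c : (F ≃+* F) × (F ≃+* F) → F,
      (∀ x y, b x y = ∑ p, c p * (p.1 x * p.2 y)) ∧
      ∀ p, c p ≠ 0 → p.1 α * p.2 β = γ := by
  classical
  obtain ⟨-, -, h3⟩ := Cfsg.Agent.S1140.result (F := F)
  obtain ⟨s, c, hc⟩ := h3 b
  let c' : (F ≃+* F) × (F ≃+* F) → F := fun p => if p ∈ s then c p else 0
  have hc' : ∀ x y, b x y = ∑ p, c' p * (p.1 x * p.2 y) := by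
    intro x y
    rw [hc]
    simp only [c', ite_mul, zero_mul]
    rw [Finset.sum_ite_mem]
    simp
  refine ⟨c', hc', ?_⟩
  have hind := pair_indep (F := F)
  rw [Fintype.linearIndependent_iff] at hind
  have hz := hind (fun p => c' p * (p.1 α * p.2 β - γ)) (by
    funext z
    obtain ⟨x, y⟩ := z
    simp only [Finset.sum_apply, Pi.smul_apply, smul_eq_mul, Pi.zero_apply]
    have e1 : ∀ p : (F ≃+* F) × (F ≃+* F),
        c' p * (p.1 α * p.2 β - γ) * (pairHom p : F × F →* F) (x, y) =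
          c' p * (p.1 (α * x) * p.2 (β * y)) - γ * (c' p * (p.1 x * p.2 y)) := by
      intro p
      simp only [pairHom, MonoidHom.mk'_apply, map_mul, MonoidHom.coe_mk, OneHom.coe_mk]
      ring
    simp only [e1]
    rw [Finset.sum_sub_distrib, ← Finset.mul_sum, ← hc', ← hc', h]
    ring)
  intro p hp
  have := hz p
  rcases mul_eq_zero.mp this with h0 | h0
  · exact absurd h0 hp
  · exact sub_eq_zero.mp h0

/-- **Monomial lemma.** -/
theorem mono {m : ℕ} (hm : Fintype.card F = 2 ^ m) (hm0 : m ≠ 0)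
    (h3 : 3 ≤ Fintype.card F) {μ l : F} (hμ : IsPrim μ) (hl : IsPrim l)
    (b : F →+ F →+ F) (h : ∀ x y, b (μ * x) (l * y) = l * b x y) :
    ∃ (C : F) (σ τ : F ≃+* F), (∀ x y, b x y = C * (σ x * τ y)) ∧
      (C ≠ 0 → σ μ * τ l = l ∧ τ ≠ RingEquiv.refl F) := by
  classical
  have hfin : Finite (F ≃+* F) :=
    Finite.of_injective (fun σ : F ≃+* F => (σ : F → F)) DFunLike.coe_injective
  let _ : Fintype (F ≃+* F) := Fintype.ofFinite _
  obtain ⟨c, hc, hw⟩ := expand_weights μ l l b h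
  have hne : ∀ {σ τ : F ≃+* F}, σ μ * τ l = l → τ ≠ RingEquiv.refl F := by
    intro σ τ he hτ
    rw [hτ] at he
    have hl0 := hl.ne_zero h3
    have h1 : σ μ = 1 := by
      have : σ μ * l = 1 * l := by simpa using he
      exact mul_right_cancel₀ hl0 this
    have h2 : μ = 1 := by
      have : σ μ = σ 1 := by simpa using h1
      exact σ.injective this
    exact hμ.ne_one h3 h2
  by_cases hall : ∀ p, c p = 0
  · refine ⟨0, RingEquiv.refl F, RingEquiv.refl F, ?_, fun h0 => absurd rfl h0⟩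
    intro x y
    rw [hc]
    simp [hall]
  · push Not at hall
    obtain ⟨p₀, hp₀⟩ := hall
    refine ⟨c p₀, p₀.1, p₀.2, ?_, fun _ => ⟨hw p₀ hp₀, hne (hw p₀ hp₀)⟩⟩
    intro x y
    rw [hc, Finset.sum_eq_single p₀]
    · intro p _ hp
      by_contra hcp
      have hcp' : c p ≠ 0 := fun h0 => hcp (by simp [h0])
      obtain ⟨e1, e2⟩ := weight_uniq hm hm0 h3 hμ hl (hw p hcp') (hw p₀ hp₀)
      exact hp (Prod.ext e1 e2)
    · simp

end Field

end Cfsg.Agent.Lib.PGroup.SuzukiTwo
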