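import Mathlib
import Cfsg.Agent.S3008
import Cfsg.Agent.Lib.PGroup.SuzukiTwo.Setup

/-!
# Higman's theorem: normal invariant subgroups of exponent at most 4 are central modulo `Om`.
-/

set_option autoImplicit false
set_option linter.style.haveILetI false
set_option linter.unusedSectionVars false
set_option linter.unusedVariables false

namespace Cfsg.Agent.Lib.PGroup.SuzukiTwo

open scoped commutatorElement

variable {P : Type*} [Group P]

theorem exists_step_of_lt [Finite P] (hp : IsPGroup 2 P) {T H : Subgroup P} (hTn : T.Normal)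
    (hHn : H.Normal) (hTH : T ≤ H) (hne : H ≠ T) :
    ∃ t ∈ H, t ∉ T ∧ ∀ x : P, ⁅t, x⁆ ∈ T := by
  haveI : Fact (Nat.Prime 2) := ⟨Nat.prime_two⟩
  have hT : (⊤ : Subgroup P) ≤ Cfsg.Agent.S3008.nm T := by
    rw [Cfsg.Agent.S3008.nm, Subgroup.normalizer_eq_top_iff.mpr hTn]
  have hH : (⊤ : Subgroup P) ≤ Cfsg.Agent.S3008.nm H := by
    rw [Cfsg.Agent.S3008.nm, Subgroup.normalizer_eq_top_iff.mpr hHn]
  obtain ⟨w, hw, hwT, hfix⟩ := Cfsg.Agent.S3008.exists_fixed_mod (P := P) hp (M := ⊤) hTH hne hT hH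
    (le_trans le_top hT)
  refine ⟨w, hw, hwT, ?_⟩
  intro x
  have h1 : w⁻¹ * (x * w * x⁻¹) ∈ T := by
    have := hfix x⁻¹ trivial
    simpa [Cfsg.Agent.S3008.Fx] using this
  have h2 := hTn.conj_mem _ (T.inv_mem h1) w
  have h3 : w * (w⁻¹ * (x * w * x⁻¹))⁻¹ * w⁻¹ = ⁅w, x⁆ := by
    rw [commutatorElement_def]; group
  rwa [h3] at h2

namespace Setup

variable {ξ : P →* P} {q : ℕ} (S : Setup ξ q)
include S

theorem Om_normal : S.Om.Normal := by
  constructor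
  intro n hn g
  rw [S.Om_central hn g, mul_inv_cancel_right]
  exact hn

theorem step_inv {N : Subgroup P} [N.Normal] (hN : IsInv ξ N) :
    IsInv ξ (Subgroup.upperCentralSeriesStep N) := by
  intro x hx y
  obtain ⟨y', rfl⟩ := S.surj y
  rw [← xi_comm]
  exact hN _ (hx y')

/-- The basic identity: if `t^2` is central then `t` inverts `[t,x]`. -/
theorem conj_comm_eq {t x : P} (ht : ∀ g, g * (t * t) = (t * t) * g) :
    t * ⁅t, x⁆ * t⁻¹ = ⁅t, x⁆⁻¹ := by
  -- `x t x⁻¹ = a⁻¹ t`, square it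
  set a := ⁅t, x⁆ with ha
  have h1 : x * t * x⁻¹ = a⁻¹ * t := by
    rw [ha, commutatorElement_def]; group
  have h2 : (a⁻¹ * t) * (a⁻¹ * t) = t * t := by
    rw [← h1]
    calc x * t * x⁻¹ * (x * t * x⁻¹) = x * (t * t) * x⁻¹ := by group
      _ = (t * t) * x * x⁻¹ := by rw [ht x]
      _ = t * t := by group
  have h3 : a⁻¹ * t * a⁻¹ = t := by
    have : (a⁻¹ * t * a⁻¹) * t = t * t := by rw [← h2]; group
    exact mul_right_cancel this
  calc t * a * t⁻¹ = (a⁻¹ * t * a⁻¹) * a * t⁻¹ := by rw [h3]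
    _ = a⁻¹ := by group

/-- **Prop B.** -/
theorem propB {F : Type*} [Field F] [Fintype F] [CharP F 2] (hq : Fintype.card F = q)
    {H : Subgroup P} (hHn : H.Normal) (hHi : IsInv ξ H) (hsq : ∀ x ∈ H, x * x ∈ S.Om) :
    ∀ h ∈ H, ∀ x : P, ⁅h, x⁆ ∈ S.Om := by
  classical
  haveI := S.fin
  obtain ⟨m, hqm, hm2⟩ := S.exists_m
  have hm : Fintype.card F = 2 ^ m := by rw [hq, hqm]
  have hm0 : m ≠ 0 := by omega
  have h3 : 3 ≤ Fintype.card F := by rw [hq]; exact S.three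
  by_contra hcon
  push Not at hcon
  obtain ⟨h₀, hh₀, x₀, hx₀⟩ := hcon
  haveI hOmn : S.Om.Normal := S.Om_normal
  -- commutators in `H`
  have hHcomm : ∀ u ∈ H, ∀ v ∈ H, ⁅u, v⁆ ∈ S.Om := fun u hu v hv =>
    S.comm_mem_of_sq (hsq u hu) (hsq v hv) (hsq _ (H.mul_mem hu hv))
  have hsqc : ∀ t ∈ H, ∀ g, g * (t * t) = (t * t) * g := fun t ht g =>
    S.Om_central (hsq t ht) g
  -- the subgroups `T`, `T₂`
  let T : Subgroup P := H ⊓ Subgroup.upperCentralSeriesStep S.Om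
  have hmemT : ∀ t, t ∈ T ↔ t ∈ H ∧ ∀ x : P, ⁅t, x⁆ ∈ S.Om := fun t => Iff.rfl
  have hTn : T.Normal := by
    have h1 : (Subgroup.upperCentralSeriesStep S.Om).Normal := by
      rw [Subgroup.upperCentralSeriesStep_eq_comap_center]
      exact Subgroup.Normal.comap inferInstance _
    exact Subgroup.normal_inf_normal _ _
  have hTi : IsInv ξ T := fun x hx => ⟨hHi _ hx.1, S.step_inv S.Om_inv _ hx.2⟩
  have hTH : T ≤ H := inf_le_left
  have hne : H ≠ T := by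
    intro h
    have : h₀ ∈ T := by rw [← h]; exact hh₀
    exact hx₀ (this.2 x₀)
  haveI : T.Normal := hTn
  let T₂ : Subgroup P := H ⊓ Subgroup.upperCentralSeriesStep T
  have hmemT₂ : ∀ t, t ∈ T₂ ↔ t ∈ H ∧ ∀ x : P, ⁅t, x⁆ ∈ T := fun t => Iff.rfl
  have hT₂n : T₂.Normal := by
    have h1 : (Subgroup.upperCentralSeriesStep T).Normal := by
      rw [Subgroup.upperCentralSeriesStep_eq_comap_center]
      exact Subgroup.Normal.comap inferInstance _
    exact Subgroup.normal_inf_normal _ _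
  have hT₂i : IsInv ξ T₂ := fun x hx => ⟨hHi _ hx.1, S.step_inv hTi _ hx.2⟩
  have hHne : H ≠ ⊥ := by
    intro hbot
    rw [hbot] at hh₀
    have : h₀ = 1 := by simpa using hh₀
    rw [this] at hx₀
    simp at hx₀
  -- `Om ≤ T`
  have hOT : S.Om ≤ T := by
    intro w hw
    refine ⟨S.mem_of_sq hHi hHne hw, fun y => ?_⟩
    have : ⁅w, y⁆ = 1 := by
      rw [commutatorElement_eq_one_iff_mul_comm]
      exact (S.Om_central hw y).symm
    rw [this]
    exact S.Om.one_mem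
  have hTT₂ : T ≤ T₂ := fun t ht => ⟨ht.1, fun x => hOT (ht.2 x)⟩
  obtain ⟨t₀, ht₀H, ht₀T, ht₀⟩ := exists_step_of_lt S.pg hTn hHn hTH hne
  have ht₀T₂ : t₀ ∈ T₂ := ⟨ht₀H, ht₀⟩
  -- a minimal invariant subgroup above `T`
  let 𝒮 : Set (Subgroup P) := {C | IsInv ξ C ∧ T ≤ C ∧ C ≠ T ∧ C ≤ T₂}
  have h𝒮 : 𝒮.Nonempty := ⟨T₂, hT₂i, hTT₂, fun h => ht₀T (h ▸ ht₀T₂), le_refl _⟩
  obtain ⟨Y, hY⟩ := (Set.toFinite 𝒮).exists_minimal h𝒮
  obtain ⟨hYi, hTY, hYT, hYT₂⟩ := hY.prop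
  have hYH : Y ≤ H := hYT₂.trans inf_le_left
  obtain ⟨-, -, μ, f, hμ, hf⟩ := S.exists_coord (F := F) hq hTY (Ne.symm hYT) hYi hTi
    (Subgroup.Normal.subgroupOf hTn _)
    (by
      intro C hC hTC hCY
      by_cases h : C = T
      · exact Or.inl h
      · right
        exact le_antisymm hCY (hY.le_of_le ⟨hC, hTC, h, hCY.trans hYT₂⟩ hCY))
  -- an element of `Y` outside `T`
  obtain ⟨t₂, ht₂Y, ht₂T⟩ : ∃ t ∈ Y, t ∉ T := by
    by_contra h
    push Not at h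
    exact hYT (le_antisymm h hTY)
  obtain ⟨x₁, hx₁⟩ : ∃ x, ⁅t₂, x⁆ ∉ S.Om := by
    by_contra h
    push Not at h
    exact ht₂T ⟨hYH ht₂Y, h⟩
  -- the centre of `T`
  let Zt : Subgroup P := T ⊓ Subgroup.centralizer (T : Set P)
  have hZtcomm : ∀ a ∈ Zt, ∀ s ∈ T, s * a = a * s := fun a ha s hs =>
    (Subgroup.mem_centralizer_iff.mp ha.2) s hs
  have hZti : IsInv ξ Zt := by
    intro a ha
    refine ⟨hTi _ ha.1, Subgroup.mem_centralizer_iff.mpr ?_⟩
    intro s hs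
    obtain ⟨s', rfl⟩ := S.surj s
    have hs' : s' ∈ T := S.inv_of_xi hTi hs
    rw [← map_mul, ← map_mul, hZtcomm a ha s' hs']
  have hZtT : Zt ≤ T := inf_le_left
  have hOZt : S.Om ≤ Zt := by
    intro w hw
    refine ⟨hOT hw, Subgroup.mem_centralizer_iff.mpr ?_⟩
    intro s _
    exact S.Om_central hw s
  -- `Eq2`
  have heq2 : ∀ t ∈ T₂, ∀ x : P, ⁅t, x⁆ ∈ Zt := by
    intro t ht x
    have haT : ⁅t, x⁆ ∈ T := ht.2 x
    refine ⟨haT, Subgroup.mem_centralizer_iff.mpr ?_⟩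
    intro s hs
    set a := ⁅t, x⁆ with ha
    have hst : ⁅s, t⁆ ∈ S.Om := hHcomm s hs.1 t ht.1
    have hconj : MulAut.conj x ⁅s, t⁆ = ⁅s, t⁆ := by
      rw [MulAut.conj_apply, S.Om_central hst x, mul_inv_cancel_right]
    rw [map_commutatorElement, conj_eq_commutatorElement_mul, conj_eq_commutatorElement_mul] at hconj
    have e1 : ⁅x, t⁆ = a⁻¹ := by rw [ha, commutatorElement_inv]
    have e2 : ⁅x, s⁆ ∈ S.Om := by
      rw [← commutatorElement_inv]
      exact S.Om.inv_mem (hs.2 x)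
    rw [e1] at hconj
    have hy : a⁻¹ * t ∈ H := H.mul_mem (H.inv_mem (hTH haT)) ht.1
    have e3 : ⁅⁅x, s⁆ * s, a⁻¹ * t⁆ = ⁅s, a⁻¹ * t⁆ := by
      rw [S.comm_mul_left (hHcomm s hs.1 _ hy)]
      have : ⁅⁅x, s⁆, a⁻¹ * t⁆ = 1 := by
        rw [commutatorElement_eq_one_iff_mul_comm]
        exact (S.Om_central e2 _).symm
      rw [this, one_mul]
    rw [e3, S.comm_mul_right hst] at hconj
    have e4 : ⁅s, a⁻¹⁆ = 1 := by
      have : ⁅s, a⁻¹⁆ * ⁅s, t⁆ = 1 * ⁅s, t⁆ := by rw [one_mul]; exact hconj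
      exact mul_right_cancel this
    rw [commutatorElement_eq_one_iff_mul_comm] at e4
    -- `s` commutes with `a⁻¹`, hence with `a`
    calc s * a = a * (a⁻¹ * s) * a := by group
      _ = a * (s * a⁻¹) * a := by rw [e4]
      _ = a * s := by group
  -- `Eq1`
  have heq1 : ∀ t ∈ T₂, ∀ x : P, ⁅t, ⁅t, x⁆⁆ = (⁅t, x⁆ * ⁅t, x⁆)⁻¹ := by
    intro t ht x
    have h1 := S.conj_comm_eq (t := t) (x := x) (hsqc t ht.1)
    rw [commutatorElement_def t ⁅t, x⁆, h1, mul_inv_rev]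
  -- coordinates
  obtain ⟨l, θ, hl, hθ⟩ := S.exists_Om_coord (F := F) hq
  have hθinv : ∀ w ∈ S.Om, θ w⁻¹ = θ w := by
    intro w hw
    rw [hθ.map_inv hw, CharTwo.neg_eq]
  have hθ0 : ∀ w ∈ S.Om, θ w = 0 ↔ w = 1 := by
    intro w hw
    rw [hθ.ker w hw, Subgroup.mem_bot]
  let g : P → F := fun a => θ (a * a)
  have hsqZ : ∀ a ∈ Zt, a * a ∈ S.Om := fun a ha => hsq a (hTH (hZtT ha))
  -- an element of `Zt` not in `Om`
  have ha₁Z : ⁅t₂, x₁⁆ ∈ Zt := heq2 _ (hYT₂ ht₂Y) _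
  have hg : Coord ξ Zt S.Om g l := by
    refine ⟨?_, ?_, ?_, ?_⟩
    · intro a ha b hb
      have h1 : a * b = b * a := (hZtcomm b hb a (hZtT ha))
      have h2 : a * b * (a * b) = (a * a) * (b * b) := by
        calc a * b * (a * b) = a * (b * a) * b := by group
          _ = a * (a * b) * b := by rw [h1]
          _ = _ := by group
      show θ (a * b * (a * b)) = _
      rw [h2, hθ.add _ (hsqZ a ha) _ (hsqZ b hb)]
    · intro a ha
      show θ (a * a) = 0 ↔ _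
      rw [hθ0 _ (hsqZ a ha)]
      exact Iff.rfl
    · intro u
      obtain ⟨w, hw, rfl⟩ := hθ.surj u
      by_cases hw1 : w = 1
      · exact ⟨1, Zt.one_mem, by simp [g, hw1]⟩
      · have hz1 : ⁅t₂, x₁⁆ * ⁅t₂, x₁⁆ ≠ 1 := fun h => hx₁ h
        have hz2 : (⁅t₂, x₁⁆ * ⁅t₂, x₁⁆) * (⁅t₂, x₁⁆ * ⁅t₂, x₁⁆) = 1 := hsqZ _ ha₁Z
        obtain ⟨n, hn⟩ := S.trans _ w hz1 hz2 hw1 hw
        refine ⟨ξ^[n] ⁅t₂, x₁⁆, hZti.iter ha₁Z n, ?_⟩
        show θ _ = θ w
        rw [← hn, iterate_map_mul]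
    · intro a ha
      show θ (ξ a * ξ a) = l * θ (a * a)
      rw [← map_mul, hθ.mulξ _ (hsqZ a ha)]
  have hgk : ∀ a ∈ Zt, g a = 0 ↔ a ∈ S.Om := fun a ha => hg.ker a ha
  -- the monomial lemma
  have hcommOm : ∀ t ∈ Y, ∀ a ∈ Zt, ⁅t, a⁆ ∈ S.Om := fun t ht a ha =>
    hHcomm t (hYH ht) a (hTH (hZtT ha))
  obtain ⟨C, σ, τ, hmono, hC⟩ := mono_of_coord hm hm0 h3 hf hg hμ hl hYi hZti
    (fun t a : P => θ ⁅t, a⁆)
    (by
      intro t ht t' ht' a ha
      show θ ⁅t * t', a⁆ = _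
      rw [S.comm_mul_left (hcommOm t' ht' a ha), hθ.add _ (hcommOm t ht a ha) _ (hcommOm t' ht' a ha)])
    (by
      intro t ht a ha a' ha'
      show θ ⁅t, a * a'⁆ = _
      rw [S.comm_mul_right (hcommOm t ht a' ha'), hθ.add _ (hcommOm t ht a ha) _ (hcommOm t ht a' ha')])
    (by
      intro t ht _ a ha
      show θ ⁅t, a⁆ = 0
      have : ⁅t, a⁆ = 1 := by
        rw [commutatorElement_eq_one_iff_mul_comm]
        exact hZtcomm a ha t ht
      rw [this]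
      exact hθ.map_one)
    (by
      intro t _ a ha _
      show θ ⁅t, a⁆ = 0
      have : ⁅t, a⁆ = 1 := by
        rw [commutatorElement_eq_one_iff_mul_comm]
        exact S.Om_central ha t
      rw [this]
      exact hθ.map_one)
    (by
      intro t ht a ha
      show θ ⁅ξ t, ξ a⁆ = _
      rw [← xi_comm, hθ.mulξ _ (hcommOm t ht a ha)])
  -- the key equation
  have hstar : ∀ t ∈ Y, ∀ x : P, g ⁅t, x⁆ = C * (σ (f t) * τ (g ⁅t, x⁆)) := by
    intro t ht x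
    have h1 := hmono t ht _ (heq2 t (hYT₂ ht) x)
    rw [heq1 t (hYT₂ ht) x, hθinv _ (hsqZ _ (heq2 t (hYT₂ ht) x))] at h1
    exact h1
  have hC0 : C ≠ 0 := by
    intro h0
    have h1 := hstar t₂ ht₂Y x₁
    rw [h0, zero_mul] at h1
    exact hx₁ ((hgk _ ha₁Z).mp h1)
  obtain ⟨-, hτ⟩ := hC hC0
  obtain ⟨t₁, ht₁, hft₁⟩ := hf.surj 1
  -- additivity in the second argument
  have hadd3 : ∀ t ∈ Y, ∀ x y : P, g ⁅t, x * y⁆ = g ⁅t, x⁆ + g ⁅t, y⁆ := by
    intro t ht x y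
    have ht' := hYT₂ ht
    have e1 : ⁅t, x * y⁆ = ⁅t, x⁆ * (⁅x, ⁅t, y⁆⁆ * ⁅t, y⁆) := by
      simp only [commutatorElement_def]; group
    have e2 : ⁅x, ⁅t, y⁆⁆ ∈ S.Om := by
      rw [← commutatorElement_inv]
      exact S.Om.inv_mem ((ht'.2 y).2 x)
    rw [e1, hg.add _ (heq2 t ht' x) _ (Zt.mul_mem (hOZt e2) (heq2 t ht' y)),
      hg.add _ (hOZt e2) _ (heq2 t ht' y), (hgk _ (hOZt e2)).mpr e2, zero_add]
  -- the kernel
  let W : Subgroup P :=
    { carrier := {x | ∀ t ∈ Y, ⁅t, x⁆ ∈ S.Om}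
      one_mem' := by
        intro t _
        rw [commutatorElement_one_right]
        exact S.Om.one_mem
      mul_mem' := by
        intro a b ha hb t ht
        rw [S.comm_mul_right (hb t ht)]
        exact S.Om.mul_mem (ha t ht) (hb t ht)
      inv_mem' := by
        intro a ha t ht
        rw [commutatorElement_inv_right, ← commutatorElement_inv]
        have := S.Om.inv_mem (ha t ht)
        rw [S.Om_central this a⁻¹, inv_mul_cancel_right]
        exact this }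
  have hWi : IsInv ξ W := by
    intro x hx t ht
    obtain ⟨t', rfl⟩ := S.surj t
    rw [← xi_comm]
    exact S.Om_inv _ (hx t' (S.inv_of_xi hYi ht))
  have hWiter : ∀ (n : ℕ) (x : P), ξ^[n] x ∈ W → x ∈ W := by
    intro n x
    induction n with
    | zero => exact id
    | succ n ih =>
      intro h
      rw [Function.iterate_succ_apply'] at h
      exact ih (S.inv_of_xi hWi h)
  have hclaim : ∀ x : P, g ⁅t₁, x⁆ = 0 → x ∈ W := by
    intro x hx t ht
    by_contra hne'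
    have htT₂ := hYT₂ ht
    have ht₁T₂ := hYT₂ ht₁
    have hw : g ⁅t, x⁆ ≠ 0 := fun h => hne' ((hgk _ (heq2 t htT₂ x)).mp h)
    have hom : ⁅t₁, x⁆ ∈ S.Om := (hgk _ (heq2 t₁ ht₁T₂ x)).mp hx
    have e1 : g ⁅t * t₁, x⁆ = g ⁅t, x⁆ := by
      rw [S.comm_mul_left hom, hg.add _ (heq2 t htT₂ x) _ (heq2 t₁ ht₁T₂ x), hx, add_zero]
    have e2 := hstar t ht x
    have e3 := hstar (t * t₁) (Y.mul_mem ht ht₁) x
    rw [e1, hf.add _ ht _ ht₁, hft₁, map_add, map_one] at e3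
    have e4 : C * τ (g ⁅t, x⁆) = 0 := by
      have : C * (σ (f t) * τ (g ⁅t, x⁆)) = C * ((σ (f t) + 1) * τ (g ⁅t, x⁆)) := by
        rw [← e2]; exact e3
      have h5 : C * τ (g ⁅t, x⁆) + C * (σ (f t) * τ (g ⁅t, x⁆)) = 0 + C * (σ (f t) * τ (g ⁅t, x⁆)) := by
        rw [zero_add]
        calc C * τ (g ⁅t, x⁆) + C * (σ (f t) * τ (g ⁅t, x⁆))
            = C * ((σ (f t) + 1) * τ (g ⁅t, x⁆)) := by ring
          _ = _ := this.symm
      exact add_right_cancel h5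
    rcases mul_eq_zero.mp e4 with h | h
    · exact hC0 h
    · exact hw (by simpa using h)
  have hx₁W : x₁ ∉ W := fun h => hx₁ (h t₂ ht₂Y)
  -- `Δ` is onto
  have hΔ1 : g ⁅t₁, (1 : P)⁆ = 0 := by
    rw [commutatorElement_one_right]
    exact (hgk 1 Zt.one_mem).mpr S.Om.one_mem
  have hq1 : 0 < q - 1 := by have := S.three; omega
  have hsurjΔ : ∀ w : F, w ≠ 0 → ∃ x, g ⁅t₁, x⁆ = w := by
    intro w hw
    have hne0 : ∀ n, g ⁅t₁, ξ^[n] x₁⁆ ≠ 0 := by
      intro n h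
      exact hx₁W (hWiter n _ (hclaim _ h))
    have hinj : ∀ a b, a ≤ b → b < q - 1 → g ⁅t₁, ξ^[a] x₁⁆ = g ⁅t₁, ξ^[b] x₁⁆ → a = b := by
      intro a b hab hb h
      by_contra hne'
      have hnd : ¬ (q - 1) ∣ (b - a) := by
        intro hd
        have := Nat.le_of_dvd (by omega) hd
        omega
      set y := ξ^[a] x₁ with hy
      have e1 : ξ^[b] x₁ = ξ^[b - a] y := by
        rw [hy, ← Function.iterate_add_apply, Nat.sub_add_cancel hab]
      rw [e1] at h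
      have e2 : g ⁅t₁, y⁻¹ * ξ^[b - a] y⁆ = 0 := by
        rw [hadd3 t₁ ht₁, ← h]
        have := hadd3 t₁ ht₁ y⁻¹ y
        rw [inv_mul_cancel, hΔ1] at this
        exact this.symm
      have e3 : y ∈ W := S.free_mod hWi hnd (hclaim _ e2)
      exact hx₁W (hWiter a _ e3)
    let Sset : Finset F := (Finset.range (q - 1)).image (fun n => g ⁅t₁, ξ^[n] x₁⁆)
    have hS : Sset.card = q - 1 := by
      rw [Finset.card_image_of_injOn, Finset.card_range]
      intro a ha b hb h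
      have ha' : a < q - 1 := by simpa using ha
      have hb' : b < q - 1 := by simpa using hb
      rcases le_total a b with hab | hab
      · exact hinj a b hab hb' h
      · exact (hinj b a hab ha' h.symm).symm
    have hsub : Sset ⊆ Finset.univ.erase 0 := by
      intro y hy
      simp only [Sset, Finset.mem_image, Finset.mem_range] at hy
      obtain ⟨n, -, rfl⟩ := hy
      simp [hne0 n]
    have hcard : (Finset.univ.erase (0 : F)).card = q - 1 := by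
      rw [Finset.card_erase_of_mem (Finset.mem_univ _), Finset.card_univ, hq]
    have heq : Sset = Finset.univ.erase 0 :=
      Finset.eq_of_subset_of_card_le hsub (by omega)
    have hw' : w ∈ Sset := by rw [heq]; simp [hw]
    simp only [Sset, Finset.mem_image, Finset.mem_range] at hw'
    obtain ⟨n, -, hn⟩ := hw'
    exact ⟨_, hn⟩
  -- conclusion
  obtain ⟨x', hx'⟩ := hsurjΔ 1 one_ne_zero
  have hC1 : C = 1 := by
    have := hstar t₁ ht₁ x'
    rw [hx', hft₁, map_one, map_one, mul_one, mul_one] at this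
    exact this.symm
  apply hτ
  ext w
  by_cases hw : w = 0
  · simp [hw]
  · obtain ⟨x, hx⟩ := hsurjΔ w hw
    have := hstar t₁ ht₁ x
    rw [hx, hft₁, map_one, one_mul, hC1, one_mul] at this
    exact this.symm

end Setup

end Cfsg.Agent.Lib.PGroup.SuzukiTwo
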