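import Mathlib
import Cfsg.Agent.Lib.PGroup.SuzukiTwo.PropB

/-!
# Higman's theorem: a maximal invariant subgroup which is abelian.
-/

set_option autoImplicit false
set_option linter.style.haveILetI false
set_option linter.unusedSectionVars false
set_option linter.unusedVariables false

namespace Cfsg.Agent.Lib.PGroup.SuzukiTwo

open scoped commutatorElement

variable {P : Type*} [Group P]

namespace Setup

variable {ξ : P →* P} {q : ℕ} (S : Setup ξ q)
include S

theorem abelian_case {F : Type*} [Field F] [Fintype F] [CharP F 2] (hq : Fintype.card F = q)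
    {H : Subgroup P} (hHi : IsInv ξ H) (hHn : H.Normal) (hHtop : H ≠ ⊤) (hHne : H ≠ ⊥)
    (hab : ∀ x ∈ H, ∀ y ∈ H, x * y = y * x) (hc2 : ∀ x : P, x * x ∈ H)
    (hc1 : ∀ x y : P, ⁅x, y⁆ ∈ H) {μ : F} {f : P → F} (hμ : IsPrim μ) (hf : Coord ξ ⊤ H f μ) :
    (∀ x y : P, x * y = y * x) ∨ (∀ x : P, x * x ∈ S.Om) := by
  classical
  haveI := S.fin
  obtain ⟨m, hqm, hm2⟩ := S.exists_m
  have hm : Fintype.card F = 2 ^ m := by rw [hq, hqm]
  have hm0 : m ≠ 0 := by omega
  have h3 : 3 ≤ Fintype.card F := by rw [hq]; exact S.three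
  obtain ⟨l, θ, hl, hθ⟩ := S.exists_Om_coord (F := F) hq
  have hθ0 : ∀ w ∈ S.Om, θ w = 0 ↔ w = 1 := by
    intro w hw
    rw [hθ.ker w hw, Subgroup.mem_bot]
  have hOH : S.Om ≤ H := S.Om_le hHi hHne
  have hpc : ∀ g ∈ H, ∀ g' ∈ H, Commute g g' := fun g hg g' hg' => hab g hg g' hg'
  have hmulpow : ∀ g ∈ H, ∀ g' ∈ H, ∀ n : ℕ, (g * g') ^ n = g ^ n * g' ^ n :=
    fun g hg g' hg' n => (hpc g hg g' hg').mul_pow n
  have hcommH : ∀ (g : P) (x : P), g ∈ H → ⁅g, x⁆ ∈ H := by
    intro g x hg
    rw [commutatorElement_def]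
    have : g * x * g⁻¹ * x⁻¹ = g * (x * g⁻¹ * x⁻¹) := by group
    rw [this]
    exact H.mul_mem hg (hHn.conj_mem _ (H.inv_mem hg) x)
  -- `F1`
  have hF1 : ∀ (x : P), ∀ g ∈ H, ∀ g' ∈ H, ⁅g * g', x⁆ = ⁅g, x⁆ * ⁅g', x⁆ := by
    intro x g hg g' hg'
    have e1 : ⁅g * g', x⁆ = g * ⁅g', x⁆ * g⁻¹ * ⁅g, x⁆ := by
      simp only [commutatorElement_def]; group
    rw [e1, hab g hg _ (hcommH g' x hg'), mul_inv_cancel_right]
    exact hab _ (hcommH g' x hg') _ (hcommH g x hg)
  have hF1' : ∀ (x : P), ∀ g ∈ H, ∀ n : ℕ, ⁅g ^ n, x⁆ = ⁅g, x⁆ ^ n := by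
    intro x g hg n
    induction n with
    | zero => simp
    | succ n ih =>
      rw [pow_succ, pow_succ, hF1 x _ (H.pow_mem hg n) _ hg, ih]
  -- exponent
  obtain ⟨k, he, g₀, hg₀H, hg₀⟩ : ∃ k : ℕ, (∀ g ∈ H, g ^ (2 ^ (k + 1)) = 1) ∧
      ∃ g₀ ∈ H, g₀ ^ (2 ^ k) ≠ 1 := by
    have hexp : ∃ e : ℕ, ∀ g ∈ H, g ^ (2 ^ e) = 1 := by
      obtain ⟨e, he⟩ := IsPGroup.iff_card.mp S.pg
      refine ⟨e, fun g _ => ?_⟩
      rw [← he]
      exact pow_card_eq_one'
    have h0 : Nat.find hexp ≠ 0 := by
      intro h0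
      apply hHne
      rw [eq_bot_iff]
      intro g hg
      have := Nat.find_spec hexp g hg
      rw [h0] at this
      simpa using this
    obtain ⟨k, hk⟩ := Nat.exists_eq_succ_of_ne_zero h0
    refine ⟨k, ?_, ?_⟩
    · have := Nat.find_spec hexp
      rw [hk] at this
      exact this
    · have := Nat.find_min hexp (m := k) (by omega)
      push Not at this
      exact this
  have hpow2 : ∀ (g : P) (k : ℕ), g ^ (2 ^ (k + 1)) = g ^ (2 ^ k) * g ^ (2 ^ k) := by
    intro g k
    rw [pow_succ, pow_mul, pow_two]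
  have hsq2 : ∀ (g : P) (k : ℕ), (g * g) ^ (2 ^ k) = g ^ (2 ^ (k + 1)) := by
    intro g k
    rw [← pow_two, ← pow_mul, pow_succ]
    congr 1
    ring
  have hOmc : ∀ g ∈ S.Om, ∀ x : P, ⁅g, x⁆ = 1 := by
    intro g hg x
    rw [commutatorElement_eq_one_iff_mul_comm]
    exact (S.Om_central hg x).symm
  have hθ1 : θ 1 = 0 := hθ.map_one
  -- `F3`
  have hF3 : ∀ j, j ≤ k → ∀ u ∈ S.Om, ∃ g ∈ H, g ^ (2 ^ (j + 1)) = 1 ∧ g ^ (2 ^ j) = u := by
    intro j hj u hu
    by_cases hu1 : u = 1
    · exact ⟨1, H.one_mem, by simp, by simp [hu1]⟩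
    have hz2 : g₀ ^ (2 ^ k) * g₀ ^ (2 ^ k) = 1 := by
      rw [← hpow2]
      exact he g₀ hg₀H
    obtain ⟨n, hn⟩ := S.trans _ u hg₀ hz2 hu1 hu
    have hg₁H : g₀ ^ (2 ^ (k - j)) ∈ H := H.pow_mem hg₀H _
    have e1 : (g₀ ^ (2 ^ (k - j))) ^ (2 ^ j) = g₀ ^ (2 ^ k) := by
      rw [← pow_mul, ← pow_add, Nat.sub_add_cancel hj]
    refine ⟨ξ^[n] (g₀ ^ (2 ^ (k - j))), hHi.iter hg₁H n, ?_, ?_⟩
    · rw [← iterate_map_pow, hpow2, e1, hz2, iterate_map_one]
    · rw [← iterate_map_pow, e1, hn]
  -- `F4`
  have hF4 : ∀ j, j ≤ k → ∀ u ∈ H, u ^ (2 ^ j) = 1 →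
      ∃ g ∈ H, g ^ (2 ^ (j + 1)) = 1 ∧ g * g = u := by
    intro j
    induction j with
    | zero =>
      intro _ u _ hu
      have : u = 1 := by simpa using hu
      exact ⟨1, H.one_mem, by simp, by simp [this]⟩
    | succ j ih =>
      intro hj u hu hu1
      have hv : u ^ (2 ^ j) * u ^ (2 ^ j) = 1 := by rw [← hpow2]; exact hu1
      obtain ⟨g₁, hg₁H, hg₁1, hg₁2⟩ := hF3 (j + 1) hj _ hv
      have hw : (u * (g₁ * g₁)⁻¹) ^ (2 ^ j) = 1 := by
        rw [hmulpow _ hu _ (H.inv_mem (H.mul_mem hg₁H hg₁H)), inv_pow, hsq2, hg₁2]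
        simp
      obtain ⟨g₂, hg₂H, hg₂1, hg₂2⟩ :=
        ih (by omega) _ (H.mul_mem hu (H.inv_mem (H.mul_mem hg₁H hg₁H))) hw
      refine ⟨g₂ * g₁, H.mul_mem hg₂H hg₁H, ?_, ?_⟩
      · rw [hmulpow _ hg₂H _ hg₁H, hg₁1, mul_one, hpow2, hg₂1, mul_one]
      · have e1 : g₂ * g₁ * (g₂ * g₁) = g₂ * g₂ * (g₁ * g₁) := by
          calc g₂ * g₁ * (g₂ * g₁) = g₂ * (g₁ * g₂) * g₁ := by group
            _ = g₂ * (g₂ * g₁) * g₁ := by rw [hab g₁ hg₁H g₂ hg₂H]
            _ = _ := by group
        rw [e1, hg₂2]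
        group
  have htopinv : IsInv ξ (⊤ : Subgroup P) := fun _ _ => trivial
  obtain ⟨x₀, hx₀⟩ : ∃ x, x ∉ H := by
    by_contra h
    push Not at h
    exact hHtop (eq_top_iff.mpr fun x _ => h x)
  by_cases hcen : ∀ g ∈ H, ∀ x : P, ⁅g, x⁆ = 1
  · -- `H` central
    by_cases hk : k = 0
    · right
      intro x
      have := he _ (hc2 x)
      rw [hk] at this
      have h2 : (x * x) ^ 2 = 1 := by simpa using this
      rw [pow_two] at h2
      exact h2
    · left
      have hcomC : ∀ x y : P, ⁅x, y⁆ * x = x * ⁅x, y⁆ := by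
        intro x y
        have := hcen _ (hc1 x y) x
        rwa [commutatorElement_eq_one_iff_mul_comm] at this
      have hω : ∀ x y : P, ⁅x, y⁆ ∈ S.Om := by
        intro x y
        have e1 : ⁅x * x, y⁆ = x * ⁅x, y⁆ * x⁻¹ * ⁅x, y⁆ := by
          simp only [commutatorElement_def]; group
        rw [← hcomC, mul_inv_cancel_right, hcen _ (hc2 x) y] at e1
        exact e1.symm
      have hsqmul : ∀ x y : P, x * y * (x * y) = ⁅y, x⁆ * (x * x) * (y * y) := by
        intro x y
        calc x * y * (x * y) = x * (y * x) * y := by group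
          _ = x * (⁅y, x⁆ * x * y) * y := by
              congr 2
              simp only [commutatorElement_def]; group
          _ = (x * ⁅y, x⁆) * x * y * y := by group
          _ = (⁅y, x⁆ * x) * x * y * y := by rw [S.Om_central (hω y x) x]
          _ = _ := by group
      have hρOm : ∀ x : P, (x * x) ^ (2 ^ k) ∈ S.Om := by
        intro x
        show (x * x) ^ (2 ^ k) * (x * x) ^ (2 ^ k) = 1
        rw [← hpow2]
        exact he _ (hc2 x)
      have hρadd : ∀ x y : P, (x * y * (x * y)) ^ (2 ^ k) = (x * x) ^ (2 ^ k) * (y * y) ^ (2 ^ k) := by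
        intro x y
        obtain ⟨k', rfl⟩ := Nat.exists_eq_succ_of_ne_zero hk
        have h1 : ⁅y, x⁆ ^ (2 ^ (k' + 1)) = 1 := by
          have : ⁅y, x⁆ ^ 2 = 1 := by
            rw [pow_two]
            exact hω y x
          calc ⁅y, x⁆ ^ (2 ^ (k' + 1)) = (⁅y, x⁆ ^ 2) ^ (2 ^ k') := by
                rw [← pow_mul, pow_succ, mul_comm]
            _ = 1 := by rw [this, one_pow]
        rw [hsqmul, hmulpow _ (H.mul_mem (hc1 y x) (hc2 x)) _ (hc2 y),
          hmulpow _ (hc1 y x) _ (hc2 x), h1, one_mul]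
      have hcoord : Coord ξ ⊤ H (fun x => θ ((x * x) ^ (2 ^ k))) l := by
        refine ⟨?_, ?_, ?_, ?_⟩
        · intro x _ y _
          show θ ((x * y * (x * y)) ^ (2 ^ k)) = _
          rw [hρadd, hθ.add _ (hρOm x) _ (hρOm y)]
        · intro x _
          show θ ((x * x) ^ (2 ^ k)) = 0 ↔ x ∈ H
          rw [hθ0 _ (hρOm x)]
          constructor
          · intro h
            obtain ⟨g, hgH, -, hg⟩ := hF4 k le_rfl _ (hc2 x) h
            have hcg : ∀ y : P, y * g⁻¹ = g⁻¹ * y := by
              intro y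
              have := hcen _ (H.inv_mem hgH) y
              rw [commutatorElement_eq_one_iff_mul_comm] at this
              exact this.symm
            have h1 : (x * g⁻¹) * (x * g⁻¹) = 1 := by
              calc (x * g⁻¹) * (x * g⁻¹) = x * (g⁻¹ * x) * g⁻¹ := by group
                _ = x * (x * g⁻¹) * g⁻¹ := by rw [hcg x]
                _ = (x * x) * (g⁻¹ * g⁻¹) := by group
                _ = (g * g) * (g⁻¹ * g⁻¹) := by rw [hg]
                _ = 1 := by group
            have h2 : x * g⁻¹ ∈ H := hOH h1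
            have : x = (x * g⁻¹) * g := by group
            rw [this]
            exact H.mul_mem h2 hgH
          · intro h
            rw [hsq2]
            exact he x h
        · intro u
          obtain ⟨w, hw, rfl⟩ := hθ.surj u
          by_cases hw1 : w = 1
          · exact ⟨1, trivial, by simp [hw1]⟩
          · have hz1 : (x₀ * x₀) ^ (2 ^ k) ≠ 1 := by
              intro h
              obtain ⟨g, hgH, -, hg⟩ := hF4 k le_rfl _ (hc2 x₀) h
              have hcg : ∀ y : P, y * g⁻¹ = g⁻¹ * y := by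
                intro y
                have := hcen _ (H.inv_mem hgH) y
                rw [commutatorElement_eq_one_iff_mul_comm] at this
                exact this.symm
              have h1 : (x₀ * g⁻¹) * (x₀ * g⁻¹) = 1 := by
                calc (x₀ * g⁻¹) * (x₀ * g⁻¹) = x₀ * (g⁻¹ * x₀) * g⁻¹ := by group
                  _ = x₀ * (x₀ * g⁻¹) * g⁻¹ := by rw [hcg x₀]
                  _ = (x₀ * x₀) * (g⁻¹ * g⁻¹) := by group
                  _ = (g * g) * (g⁻¹ * g⁻¹) := by rw [hg]
                  _ = 1 := by group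
              have h2 : x₀ * g⁻¹ ∈ H := hOH h1
              apply hx₀
              have : x₀ = (x₀ * g⁻¹) * g := by group
              rw [this]
              exact H.mul_mem h2 hgH
            obtain ⟨n, hn⟩ := S.trans _ w hz1 (hρOm x₀) hw1 hw
            refine ⟨ξ^[n] x₀, trivial, ?_⟩
            show θ _ = θ w
            rw [← hn, ← iterate_map_mul, ← iterate_map_pow]
        · intro x _
          show θ ((ξ x * ξ x) ^ (2 ^ k)) = l * θ ((x * x) ^ (2 ^ k))
          rw [← map_mul, ← map_pow, hθ.mulξ _ (hρOm x)]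
      obtain ⟨C, σ, τ, hmono, -⟩ := mono_of_coord hm hm0 h3 hcoord hcoord hl hl htopinv htopinv
        (fun x y : P => θ ⁅x, y⁆)
        (by
          intro x _ x' _ y _
          show θ ⁅x * x', y⁆ = _
          rw [S.comm_mul_left (hω x' y), hθ.add _ (hω x y) _ (hω x' y)])
        (by
          intro x _ y _ y' _
          show θ ⁅x, y * y'⁆ = _
          rw [S.comm_mul_right (hω x y'), hθ.add _ (hω x y) _ (hω x y')])
        (by
          intro x hx _ y _
          show θ ⁅x, y⁆ = 0
          rw [hcen x hx y, hθ1])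
        (by
          intro x _ y hy _
          show θ ⁅x, y⁆ = 0
          have : ⁅x, y⁆ = 1 := by
            rw [← commutatorElement_inv, hcen y hy x, inv_one]
          rw [this, hθ1])
        (by
          intro x _ y _
          show θ ⁅ξ x, ξ y⁆ = _
          rw [← xi_comm, hθ.mulξ _ (hω x y)])
      obtain ⟨x₁, -, hx₁⟩ := hcoord.surj 1
      have hC : C = 0 := by
        have := hmono x₁ trivial x₁ trivial
        simp only [hx₁, commutatorElement_self, hθ1, map_one, mul_one] at this
        exact this.symm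
      intro x y
      have h1 := hmono x trivial y trivial
      simp only [hC, zero_mul] at h1
      have h2 := (hθ0 _ (hω x y)).mp h1
      rwa [commutatorElement_eq_one_iff_mul_comm] at h2
  · -- `H` not central: the level
    obtain ⟨j, hj1, hjk, hPj, hnP⟩ : ∃ j, 1 ≤ j ∧ j ≤ k ∧
        (∀ g ∈ H, g ^ (2 ^ j) = 1 → ∀ x : P, ⁅g, x⁆ = 1) ∧
        ¬ (∀ g ∈ H, g ^ (2 ^ (j + 1)) = 1 → ∀ x : P, ⁅g, x⁆ = 1) := by
      have hP : ∃ n, ¬ (∀ g ∈ H, g ^ (2 ^ n) = 1 → ∀ x : P, ⁅g, x⁆ = 1) := by
        refine ⟨k + 1, fun h => hcen fun g hg x => h g hg (he g hg) x⟩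
      have hn0 : Nat.find hP ≠ 0 := by
        intro h0
        have h1 := Nat.find_spec hP
        rw [h0] at h1
        apply h1
        intro g _ hg x
        have : g = 1 := by simpa using hg
        rw [this, commutatorElement_one_left]
      obtain ⟨j, hj⟩ := Nat.exists_eq_succ_of_ne_zero hn0
      have hspec := Nat.find_spec hP
      rw [hj] at hspec
      have hmin : ∀ n, n < j + 1 → ∀ g ∈ H, g ^ (2 ^ n) = 1 → ∀ x : P, ⁅g, x⁆ = 1 := by
        intro n hn
        have := Nat.find_min hP (m := n) (by omega)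
        push Not at this
        exact this
      have hj0 : j ≠ 0 := by
        rintro rfl
        apply hspec
        intro g _ hg x
        have h2 : g * g = 1 := by
          have : g ^ 2 = 1 := by simpa using hg
          rwa [pow_two] at this
        exact hOmc g h2 x
      have hle : j + 1 ≤ k + 1 := by
        have := Nat.find_min' hP (m := k + 1) (fun h => hcen fun g hg x => h g hg (he g hg) x)
        omega
      exact ⟨j, by omega, by omega, hmin j (by omega), hspec⟩
    let lev : ℕ → Subgroup P := fun n =>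
      { carrier := {g | g ∈ H ∧ g ^ (2 ^ n) = 1}
        one_mem' := ⟨H.one_mem, by simp⟩
        mul_mem' := by
          intro a b ha hb
          refine ⟨H.mul_mem ha.1 hb.1, ?_⟩
          rw [hmulpow _ ha.1 _ hb.1, ha.2, hb.2, one_mul]
        inv_mem' := by
          intro a ha
          refine ⟨H.inv_mem ha.1, ?_⟩
          rw [inv_pow, ha.2, inv_one] }
    have hlevmem : ∀ n g, g ∈ lev n ↔ g ∈ H ∧ g ^ (2 ^ n) = 1 := fun _ _ => Iff.rfl
    have hlevi : IsInv ξ (lev (j + 1)) := by
      intro g hg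
      refine ⟨hHi _ hg.1, ?_⟩
      rw [← map_pow, hg.2, map_one]
    have hpowOm : ∀ g ∈ lev (j + 1), g ^ (2 ^ j) ∈ S.Om := by
      intro g hg
      show g ^ (2 ^ j) * g ^ (2 ^ j) = 1
      rw [← hpow2]
      exact hg.2
    have hcoord₂ : Coord ξ (lev (j + 1)) (lev j) (fun g => θ (g ^ (2 ^ j))) l := by
      refine ⟨?_, ?_, ?_, ?_⟩
      · intro a ha b hb
        show θ ((a * b) ^ (2 ^ j)) = _
        rw [hmulpow _ ha.1 _ hb.1, hθ.add _ (hpowOm a ha) _ (hpowOm b hb)]
      · intro a ha
        show θ (a ^ (2 ^ j)) = 0 ↔ _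
        rw [hθ0 _ (hpowOm a ha), hlevmem]
        exact ⟨fun h => ⟨ha.1, h⟩, fun h => h.2⟩
      · intro u
        obtain ⟨w, hw, rfl⟩ := hθ.surj u
        obtain ⟨g, hgH, hg1, hg2⟩ := hF3 j hjk w hw
        exact ⟨g, ⟨hgH, hg1⟩, by simp [hg2]⟩
      · intro a ha
        show θ ((ξ a) ^ (2 ^ j)) = l * θ (a ^ (2 ^ j))
        rw [← map_pow, hθ.mulξ _ (hpowOm a ha)]
    have hcOm : ∀ g ∈ lev (j + 1), ∀ x : P, ⁅g, x⁆ ∈ S.Om := by
      intro g hg x
      show ⁅g, x⁆ * ⁅g, x⁆ = 1
      rw [← hF1 x g hg.1 g hg.1]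
      apply hPj _ (H.mul_mem hg.1 hg.1)
      rw [hsq2]
      exact hg.2
    obtain ⟨C, σ, τ, hmono, hC⟩ := mono_of_coord hm hm0 h3 hf hcoord₂ hμ hl htopinv hlevi
      (fun x g : P => θ ⁅g, x⁆)
      (by
        intro x _ x' _ g hg
        show θ ⁅g, x * x'⁆ = _
        rw [S.comm_mul_right (hcOm g hg x'), hθ.add _ (hcOm g hg x) _ (hcOm g hg x')])
      (by
        intro x _ g hg g' hg'
        show θ ⁅g * g', x⁆ = _
        rw [hF1 x _ hg.1 _ hg'.1, hθ.add _ (hcOm g hg x) _ (hcOm g' hg' x)])
      (by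
        intro x hx _ g hg
        show θ ⁅g, x⁆ = 0
        have : ⁅g, x⁆ = 1 := by
          rw [commutatorElement_eq_one_iff_mul_comm]
          exact hab g hg.1 x hx
        rw [this, hθ1])
      (by
        intro x _ g hg _
        show θ ⁅g, x⁆ = 0
        rw [hPj g hg.1 hg.2 x, hθ1])
      (by
        intro x _ g hg
        show θ ⁅ξ g, ξ x⁆ = _
        rw [← xi_comm, hθ.mulξ _ (hcOm g hg x)])
    have hC0 : C ≠ 0 := by
      intro h0
      apply hnP
      intro g hgH hg x
      have h1 := hmono x trivial g ⟨hgH, hg⟩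
      simp only [h0, zero_mul] at h1
      exact (hθ0 _ (hcOm g ⟨hgH, hg⟩ x)).mp h1
    have hfne : ∀ x, x ∉ H → f x ≠ 0 := by
      intro x hx h
      exact hx ((hf.ker x trivial).mp h)
    have hstarL : ∀ x, x ∉ H → ∀ g ∈ lev (j + 1), ⁅g, x⁆ = 1 → g ^ (2 ^ j) = 1 := by
      intro x hx g hg h
      have h1 := hmono x trivial g hg
      simp only [h, hθ1] at h1
      have h2 : τ (θ (g ^ (2 ^ j))) = 0 := by
        rcases mul_eq_zero.mp h1.symm with h0 | h0
        · exact absurd h0 hC0
        · rcases mul_eq_zero.mp h0 with h0 | h0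
          · exact absurd (by simpa using h0) (hfne x hx)
          · exact h0
      have h4 : θ (g ^ (2 ^ j)) = 0 := by simpa using h2
      exact (hθ0 _ (hpowOm g hg)).mp h4
    have htop : ∀ x, x ∉ H → (x * x) ^ (2 ^ k) = 1 := by
      intro x hx
      have ht : ⁅x * x, x⁆ = 1 := by
        rw [commutatorElement_eq_one_iff_mul_comm]
        group
      have hgH : (x * x) ^ (2 ^ (k - j)) ∈ H := H.pow_mem (hc2 x) _
      have h1 : ((x * x) ^ (2 ^ (k - j))) ^ (2 ^ j) = (x * x) ^ (2 ^ k) := by
        rw [← pow_mul, ← pow_add, Nat.sub_add_cancel hjk]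
      have h2 : ((x * x) ^ (2 ^ (k - j))) ^ (2 ^ (j + 1)) = 1 := by
        rw [hpow2, h1, ← hpow2]
        exact he _ (hc2 x)
      have h4 := hstarL x hx _ ⟨hgH, h2⟩ (by rw [hF1' x _ (hc2 x), ht, one_pow])
      rwa [h1] at h4
    by_cases hk1 : k = 1
    · right
      intro x
      show (x * x) * (x * x) = 1
      by_cases hx : x ∈ H
      · have := he x hx
        rw [hk1, hpow2, hpow2] at this
        simpa [pow_one, mul_assoc] using this
      · have := htop x hx
        rw [hk1] at this
        have h2 : (x * x) ^ 2 = 1 := by simpa using this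
        rwa [pow_two] at h2
    · exfalso
      have hk2 : 2 ≤ k := by omega
      by_cases hj2 : j = 1
      · -- the case `j = 1`: `D τ(r) = r`
        subst hj2
        have hmainD : ∀ x, x ∉ H → C * σ (f x) = 1 := by
          intro x hx
          set D := C * σ (f x) with hD
          have hD0 : D ≠ 0 := mul_ne_zero hC0 (by simpa using hfne x hx)
          have hmono' : ∀ w ∈ lev (1 + 1), θ ⁅w, x⁆ = D * τ (θ (w ^ (2 ^ 1))) := by
            intro w hw
            have := hmono x trivial w hw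
            rw [this, hD]
            ring
          have hkey : ∀ r : F, D * τ r = r := by
            intro r
            obtain ⟨w', hw', rfl⟩ := hθ.surj r
            obtain ⟨g, hgH, hg3, hg2⟩ := hF3 2 hk2 w' hw'
            set w := ⁅g, x⁆ with hw
            have hwH : w ∈ H := hcommH g x hgH
            have hww : w * w = ⁅g * g, x⁆ := (hF1 x g hgH g hgH).symm
            have hg4 : g ^ (2 ^ 2) ∈ S.Om := by rw [hg2]; exact hw'
            have hw4 : w ^ (2 ^ (1 + 1)) = 1 := by
              rw [hw, ← hF1' x g hgH, hOmc _ hg4]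
            have hwlev : w ∈ lev (1 + 1) := ⟨hwH, hw4⟩
            have hg1lev : g * g ∈ lev (1 + 1) := by
              refine ⟨H.mul_mem hgH hgH, ?_⟩
              rw [hsq2]
              exact hg3
            have e1 := hmono' _ hg1lev
            have e5 : (g * g) ^ (2 ^ 1) = g ^ (2 ^ 2) := hsq2 g 1
            rw [e5, hg2] at e1
            -- `x w x⁻¹ = w⁻¹`
            have e6 : ⁅w, x⁆ = w * w := by
              have hgg : (x * x) * g = g * (x * x) := hab _ (hc2 x) _ hgH
              have hg' : x * g * x⁻¹ ∈ H := hHn.conj_mem _ hgH x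
              have hconj : x * (x * g * x⁻¹) * x⁻¹ = g := by
                calc x * (x * g * x⁻¹) * x⁻¹ = (x * x) * g * (x * x)⁻¹ := by group
                  _ = g := by rw [hgg]; group
              have e7 : w = g * (x * g * x⁻¹)⁻¹ := by
                rw [hw, commutatorElement_def]; group
              have e8 : x * w * x⁻¹ = w⁻¹ := by
                calc x * w * x⁻¹ = x * (g * (x * g * x⁻¹)⁻¹) * x⁻¹ := by rw [e7]
                  _ = (x * g * x⁻¹) * (x * (x * g * x⁻¹) * x⁻¹)⁻¹ := by group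
                  _ = (x * g * x⁻¹) * g⁻¹ := by rw [hconj]
                  _ = w⁻¹ := by rw [e7]; group
              calc ⁅w, x⁆ = w * (x * w * x⁻¹)⁻¹ := by
                    rw [commutatorElement_def]; group
                _ = w * w := by rw [e8, inv_inv]
            have e2 := hmono' _ hwlev
            have e9 : w ^ (2 ^ 1) = w * w := by simp [pow_two]
            rw [e9, e6, hww] at e2
            -- `e1 : θ[g², x] = D τ(θ w')`, `e2 : θ[g², x] = D τ(θ[g², x])`
            have e10 : τ (θ w') = τ (θ ⁅g * g, x⁆) := by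
              apply mul_left_cancel₀ hD0
              rw [← e1, ← e2]
            have e11 : θ w' = θ ⁅g * g, x⁆ := τ.injective e10
            rw [e11]
            exact e2.symm
          have := hkey 1
          simpa using this
        -- two different nonzero values
        obtain ⟨u, hu0, hu1⟩ : ∃ u : F, u ≠ 0 ∧ u ≠ 1 := by
          classical
          by_contra hcon
          push Not at hcon
          have hsub : (Finset.univ : Finset F) ⊆ {0, 1} := by
            intro x _
            by_cases hx : x = 0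
            · simp [hx]
            · simp [hcon x hx]
          have := Finset.card_le_card hsub
          have h2 : ({0, 1} : Finset F).card ≤ 2 := Finset.card_le_two
          have h4 : (Finset.univ : Finset F).card = Fintype.card F := rfl
          omega
        obtain ⟨x₁, -, hx₁⟩ := hf.surj 1
        obtain ⟨x₂, -, hx₂⟩ := hf.surj u
        have hx₁H : x₁ ∉ H := fun h => one_ne_zero (hx₁ ▸ (hf.ker x₁ trivial).mpr h)
        have hx₂H : x₂ ∉ H := fun h => hu0 (hx₂ ▸ (hf.ker x₂ trivial).mpr h)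
        have e1 := hmainD x₁ hx₁H
        have e2 := hmainD x₂ hx₂H
        rw [hx₁] at e1
        rw [hx₂] at e2
        have e3 : σ 1 = σ u := by
          apply mul_left_cancel₀ hC0
          rw [e1, e2]
        exact hu1 (σ.injective e3).symm
      · -- the case `j ≥ 2`: descent
        have hj2' : 2 ≤ j := by omega
        have hΩ₂ : ∀ g ∈ H, g ^ (2 ^ 2) = 1 → ∀ x : P, ⁅g, x⁆ = 1 := by
          intro g hg h
          apply hPj g hg
          have : 2 ^ j = 2 ^ 2 * 2 ^ (j - 2) := by
            rw [← pow_add]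
            congr 1
            omega
          rw [this, pow_mul, h, one_pow]
        have hdesc : ∀ s, s ≤ k → ∀ y, y ∉ H → (y * y) ^ (2 ^ s) = 1 → False := by
          intro s
          induction s with
          | zero =>
            intro _ y hy h
            apply hy
            apply hOH
            have h2 : y * y = 1 := by simpa using h
            exact h2
          | succ s ih =>
            intro hs y hy h
            obtain ⟨g, hgH, hg1, hg2⟩ := hF4 (s + 1) hs _ (hc2 y) h
            have hy' : y * g⁻¹ ∉ H := by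
              intro h1
              apply hy
              have : y = (y * g⁻¹) * g := by group
              rw [this]
              exact H.mul_mem h1 hgH
            apply ih (by omega) _ hy'
            have hh : y⁻¹ * g⁻¹ * y ∈ H := by
              have := hHn.conj_mem _ (H.inv_mem hgH) y⁻¹
              simpa using this
            have e1 : (y * g⁻¹) * (y * g⁻¹) = ⁅g, y⁻¹⁆ := by
              calc (y * g⁻¹) * (y * g⁻¹) = (y * y) * (y⁻¹ * g⁻¹ * y) * g⁻¹ := by group
                _ = (g * g) * (y⁻¹ * g⁻¹ * y) * g⁻¹ := by rw [hg2]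
                _ = g * (g * (y⁻¹ * g⁻¹ * y)) * g⁻¹ := by group
                _ = g * ((y⁻¹ * g⁻¹ * y) * g) * g⁻¹ := by rw [hab g hgH _ hh]
                _ = ⁅g, y⁻¹⁆ := by
                    simp only [commutatorElement_def]; group
            rw [e1, ← hF1' y⁻¹ g hgH]
            apply hΩ₂ _ (H.pow_mem hgH _)
            rw [← pow_mul, ← pow_add]
            have : 2 ^ (s + 2) = 2 ^ (s + 1 + 1) := rfl
            rw [show s + 2 = s + 1 + 1 from rfl] at *
            exact hg1
        exact hdesc k le_rfl x₀ hx₀ (htop x₀ hx₀)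

end Setup

end Cfsg.Agent.Lib.PGroup.SuzukiTwo
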