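import Mathlib
import Cfsg.Prelude.Def_LieRecognition
import Cfsg.Agent.Lib.PGroup.SuzukiTwo.Main

/-!
# From `IsSuzukiTwoGroup` to the set-up
-/

set_option autoImplicit false
set_option linter.style.haveILetI false
set_option linter.unusedSectionVars false
set_option linter.unusedVariables false

namespace Cfsg.Agent.Lib.PGroup.SuzukiTwo

open scoped commutatorElement

variable {P : Type*} [Group P]

theorem iter_eq_pow (g : MulAut P) (n : ℕ) (x : P) :
    (g.toMonoidHom : P →* P)^[n] x = (g ^ n) x := by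
  induction n with
  | zero => rfl
  | succ n ih =>
    rw [Function.iterate_succ_apply', ih, pow_succ', MulAut.mul_apply]
    rfl

theorem exists_setup (hP : Cfsg.IsSuzukiTwoGroup P) : ∃ (ξ : P →* P) (q : ℕ), Setup ξ q := by
  classical
  obtain ⟨hfin, hpg, hna, ⟨x, y, hxy, hx1, hx2, hy1, hy2⟩, K, hcyc, hreg⟩ := hP
  haveI := hfin
  haveI : Finite (MulAut P) := Finite.of_injective (fun g : MulAut P => (g : P → P)) DFunLike.coe_injective
  obtain ⟨g, hg⟩ := IsCyclic.exists_generator (α := K)
  let q := Nat.card {x : P // x ≠ 1 ∧ x * x = 1} + 1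
  refine ⟨(g : MulAut P).toMonoidHom, q, hfin, hpg, ?_, rfl, ?_, ?_⟩
  · -- the period
    have hcard : Nat.card K = q - 1 := by
      simp only [q, add_tsub_cancel_right]
      apply Nat.card_congr
      refine Equiv.ofBijective (fun k : K => (⟨(k : MulAut P) x, ?_, ?_⟩ : {x : P // x ≠ 1 ∧ x * x = 1})) ⟨?_, ?_⟩
      · intro h
        exact hx1 ((k : MulAut P).injective (by rw [h, map_one]))
      · rw [← map_mul, hx2, map_one]
      · intro k k' h
        have h1 : (k : MulAut P) x = (k' : MulAut P) x := congrArg Subtype.val h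
        obtain ⟨k₀, -, huniq⟩ := hreg x ((k : MulAut P) x) hx1 hx2
          (fun h => hx1 ((k : MulAut P).injective (by rw [h, map_one])))
          (by rw [← map_mul, hx2, map_one])
        rw [huniq k rfl, huniq k' h1.symm]
      · rintro ⟨w, hw1, hw2⟩
        obtain ⟨k, hk, -⟩ := hreg x w hx1 hx2 hw1 hw2
        exact ⟨k, Subtype.ext hk⟩
    intro w
    rw [iter_eq_pow, ← hcard]
    have h1 : g ^ Nat.card K = 1 := pow_card_eq_one'
    have h2 : (g : MulAut P) ^ Nat.card K = 1 := by
      rw [← Subgroup.coe_pow, h1]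
      rfl
    rw [h2]
    rfl
  · intro u v hu1 hu2 hv1 hv2
    obtain ⟨k, hk, -⟩ := hreg u v hu1 hu2 hv1 hv2
    have hkg := hg k
    rw [← mem_powers_iff_mem_zpowers] at hkg
    obtain ⟨n, hn⟩ := hkg
    refine ⟨n, ?_⟩
    rw [iter_eq_pow, ← hk, ← hn]
    simp
  · -- at least two involutions
    have h2 : 1 < Nat.card {x : P // x ≠ 1 ∧ x * x = 1} := by
      rw [Finite.one_lt_card_iff_nontrivial]
      exact ⟨⟨⟨x, hx1, hx2⟩, ⟨y, hy1, hy2⟩, fun h => hxy (congrArg Subtype.val h)⟩⟩
    simp only [q]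
    omega

end Cfsg.Agent.Lib.PGroup.SuzukiTwo
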