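import Mathlib

/-!
# Chevalley-Warning for quadratic maps over `F₂`
-/

set_option autoImplicit false
set_option linter.style.haveILetI false
set_option linter.unusedSectionVars false
set_option linter.unusedVariables false

namespace Cfsg.Agent.Lib.PGroup.SuzukiTwo

open MvPolynomial

/-- A quadratic function on `F₂ⁿ` is a polynomial of degree at most 2. -/
theorem quad_poly {n : ℕ} (h : (Fin n → ZMod 2) → ZMod 2) (h0 : h 0 = 0)
    (hB1 : ∀ u u' w, h (u + u' + w) + h (u + u') + h w =
      (h (u + w) + h u + h w) + (h (u' + w) + h u' + h w)) :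
    ∃ p : MvPolynomial (Fin n) (ZMod 2), p.totalDegree ≤ 2 ∧ ∀ v, eval v p = h v := by
  classical
  -- basis vectors
  let e : Fin n → (Fin n → ZMod 2) := fun i => Pi.single i 1
  let B : (Fin n → ZMod 2) → (Fin n → ZMod 2) → ZMod 2 := fun u w => h (u + w) + h u + h w
  have hB0 : ∀ w, B 0 w = 0 := by
    intro w
    simp only [B, zero_add, h0, add_zero]
    exact CharTwo.add_self_eq_zero _
  have hBadd : ∀ u u' w, B (u + u') w = B u w + B u' w := hB1
  -- the partial sums
  let part : Finset (Fin n) → (Fin n → ZMod 2) → (Fin n → ZMod 2) :=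
    fun S v => ∑ i ∈ S, v i • e i
  have hvcases : ∀ (c : ZMod 2) (w : Fin n → ZMod 2), h (c • w) = c * h w := by
    intro c w
    have hc : c = 0 ∨ c = 1 := by revert c; decide
    rcases hc with rfl | rfl
    · simp [h0]
    · simp
  have hBsmul : ∀ (c : ZMod 2) (u w : Fin n → ZMod 2), B (c • u) w = c * B u w := by
    intro c u w
    have hc : c = 0 ∨ c = 1 := by revert c; decide
    rcases hc with rfl | rfl
    · simp [hB0]
    · simp
  have hBsym : ∀ u w, B u w = B w u := by
    intro u w
    simp only [B, add_comm u w]
    ring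
  have hBsum : ∀ (S : Finset (Fin n)) (v w : Fin n → ZMod 2),
      B (part S v) w = ∑ i ∈ S, v i * B (e i) w := by
    intro S v w
    induction S using Finset.induction_on with
    | empty => simp [part, hB0]
    | insert a S ha ih =>
      have : part (insert a S) v = v a • e a + part S v := by
        simp [part, Finset.sum_insert ha]
      rw [this, hBadd, hBsmul, ih, Finset.sum_insert ha]
  have hmain : ∀ S : Finset (Fin n), ∃ p : MvPolynomial (Fin n) (ZMod 2),
      p ∈ restrictTotalDegree (Fin n) (ZMod 2) 2 ∧ ∀ v, eval v p = h (part S v) := by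
    intro S
    induction S using Finset.induction_on with
    | empty =>
      refine ⟨0, Submodule.zero_mem _, fun v => ?_⟩
      simp [part, h0]
    | insert a S ha ih =>
      obtain ⟨p, hp, hpe⟩ := ih
      refine ⟨p + C (h (e a)) * X a + ∑ i ∈ S, C (B (e i) (e a)) * (X i * X a), ?_, ?_⟩
      · apply Submodule.add_mem
        · apply Submodule.add_mem _ hp
          rw [mem_restrictTotalDegree]
          refine (totalDegree_mul _ _).trans ?_
          simp
        · apply Submodule.sum_mem
          intro i _
          rw [mem_restrictTotalDegree]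
          refine (totalDegree_mul _ _).trans ?_
          have h1 : (X i * X a : MvPolynomial (Fin n) (ZMod 2)).totalDegree ≤ 2 := by
            refine (totalDegree_mul _ _).trans ?_
            simp
          simpa using h1
      · intro v
        have e1 : part (insert a S) v = part S v + v a • e a := by
          simp [part, Finset.sum_insert ha, add_comm]
        have e2 : h (part S v + v a • e a) =
            h (part S v) + h (v a • e a) + B (part S v) (v a • e a) := by
          simp only [B]
          have : ∀ x y z : ZMod 2, x = y + z + (x + y + z) := by decide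
          exact this _ _ _
        have e3 : B (part S v) (v a • e a) = ∑ i ∈ S, v i * (v a * B (e i) (e a)) := by
          rw [hBsum]
          apply Finset.sum_congr rfl
          intro i _
          rw [hBsym (e i) (v a • e a), hBsmul, hBsym (e a) (e i)]
        rw [e1, e2, e3, hvcases]
        simp only [map_add, map_mul, eval_C, eval_X, hpe, map_sum]
        congr 1
        · ring
        · apply Finset.sum_congr rfl
          intro i _
          ring
  obtain ⟨p, hp, hpe⟩ := hmain Finset.univ
  refine ⟨p, by rwa [mem_restrictTotalDegree] at hp, fun v => ?_⟩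
  rw [hpe]
  congr 1
  ext j
  simp only [part, e, Finset.sum_apply, Pi.smul_apply, Pi.single_apply, smul_eq_mul]
  simp

/-- **Chevalley-Warning** for a quadratic map over `F₂`. -/
theorem cw_quad {V W : Type*} [AddCommGroup V] [Module (ZMod 2) V] [Finite V]
    [AddCommGroup W] [Module (ZMod 2) W] [Finite W] (Q : V → W) (h0 : Q 0 = 0)
    (hB : ∀ u u' w, Q (u + u' + w) + Q (u + u') + Q w =
      (Q (u + w) + Q u + Q w) + (Q (u' + w) + Q u' + Q w))
    (hcard : Nat.card W ^ 2 < Nat.card V) : ∃ v, v ≠ 0 ∧ Q v = 0 := by
  classical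
  haveI : Fintype V := Fintype.ofFinite V
  haveI : Fintype W := Fintype.ofFinite W
  let n := Module.finrank (ZMod 2) V
  let m := Module.finrank (ZMod 2) W
  let bV : Module.Basis (Fin n) (ZMod 2) V := Module.finBasis (ZMod 2) V
  let bW : Module.Basis (Fin m) (ZMod 2) W := Module.finBasis (ZMod 2) W
  have hcV : Nat.card V = 2 ^ n := by
    rw [Nat.card_eq_fintype_card, Module.card_eq_pow_finrank (K := ZMod 2)]
    simp [n]
  have hcW : Nat.card W = 2 ^ m := by
    rw [Nat.card_eq_fintype_card, Module.card_eq_pow_finrank (K := ZMod 2)]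
    simp [m]
  have hnm : 2 * m < n := by
    rw [hcV, hcW, ← pow_mul] at hcard
    have := (Nat.pow_lt_pow_iff_right (by norm_num : 1 < 2)).mp hcard
    omega
  let h : Fin m → (Fin n → ZMod 2) → ZMod 2 := fun k x => bW.equivFun (Q (bV.equivFun.symm x)) k
  have hp : ∀ k, ∃ p : MvPolynomial (Fin n) (ZMod 2), p.totalDegree ≤ 2 ∧ ∀ v, eval v p = h k v := by
    intro k
    apply quad_poly
    · simp [h, h0]
    · intro u u' w
      have := congrFun (congrArg bW.equivFun (hB (bV.equivFun.symm u) (bV.equivFun.symm u')
        (bV.equivFun.symm w))) k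
      simp only [map_add, Pi.add_apply] at this
      simp only [h, map_add]
      exact this
  choose p hpd hpe using hp
  have hsum : ∑ k ∈ (Finset.univ : Finset (Fin m)), (p k).totalDegree < Fintype.card (Fin n) := by
    rw [Fintype.card_fin]
    calc ∑ k ∈ (Finset.univ : Finset (Fin m)), (p k).totalDegree
        ≤ ∑ _k ∈ (Finset.univ : Finset (Fin m)), 2 := Finset.sum_le_sum (fun k _ => hpd k)
      _ = m * 2 := by simp
      _ < n := by omega
  have hd := char_dvd_card_solutions_of_sum_lt (K := ZMod 2) 2 hsum
  have hz : ∀ k ∈ (Finset.univ : Finset (Fin m)), eval (0 : Fin n → ZMod 2) (p k) = 0 := by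
    intro k _
    rw [hpe]
    simp [h, h0]
  let X := {x : Fin n → ZMod 2 // ∀ i ∈ (Finset.univ : Finset (Fin m)), eval x (p i) = 0}
  have hd' : 2 ∣ Nat.card X := by
    rw [Nat.card_eq_fintype_card]
    convert hd
  let z0 : X := ⟨0, hz⟩
  have hcardpos : 0 < Nat.card X := Nat.card_pos_iff.mpr ⟨⟨z0⟩, inferInstance⟩
  have h2 : 1 < Nat.card X := by
    have := Nat.le_of_dvd hcardpos hd'
    omega
  obtain ⟨x, hx⟩ : ∃ x : X, x ≠ z0 := by
    haveI := (Finite.one_lt_card_iff_nontrivial).mp h2
    exact exists_ne z0
  refine ⟨bV.equivFun.symm x.1, ?_, ?_⟩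
  · intro h0'
    apply hx
    apply Subtype.ext
    have := congrArg bV.equivFun h0'
    rw [LinearEquiv.apply_symm_apply, map_zero] at this
    exact this
  · apply bW.equivFun.injective
    funext k
    have := x.2 k (Finset.mem_univ k)
    rw [hpe] at this
    simpa [h] using this

end Cfsg.Agent.Lib.PGroup.SuzukiTwo
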