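import Mathlib
import Cfsg.Agent.Lib.PGroup.SuzukiTwo.Main
import Cfsg.Agent.Lib.PGroup.SuzukiTwo.Bridge
import Cfsg.Agent.Lib.PGroup.SuzukiTwo.CW

/-!
# Structure of Suzuki 2-groups: the order
-/

set_option autoImplicit false
set_option linter.style.haveILetI false
set_option linter.unusedSectionVars false
set_option linter.unusedVariables false

namespace Cfsg.Agent.Lib.PGroup.SuzukiTwo

open scoped commutatorElement

variable {P : Type*} [Group P]

variable {F : Type*} [Field F] [Fintype F] [CharP F 2]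

/-- The order of a section with coordinates. -/
theorem card_coord {ξ : P →* P} {A B : Subgroup P} {f : P → F} {μ : F} [Finite P]
    (c : Coord ξ A B f μ) (hBA : B ≤ A) :
    Nat.card A = Nat.card B * Fintype.card F := by
  classical
  let φ : A →* Multiplicative F :=
    { toFun := fun x => Multiplicative.ofAdd (f x)
      map_one' := by
        show Multiplicative.ofAdd (f 1) = 1
        rw [c.map_one]
        rfl
      map_mul' := by
        intro x y
        show Multiplicative.ofAdd (f (x * y)) = _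
        rw [c.add _ x.2 _ y.2]
        rfl }
  have hsurj : Function.Surjective φ := by
    intro u
    obtain ⟨x, hx, hxu⟩ := c.surj (Multiplicative.toAdd u)
    exact ⟨⟨x, hx⟩, by
      show Multiplicative.ofAdd (f x) = u
      rw [hxu]
      rfl⟩
  have hker : φ.ker = B.subgroupOf A := by
    ext x
    rw [MonoidHom.mem_ker, Subgroup.mem_subgroupOf, ← c.ker x x.2]
    exact ofAdd_eq_one
  have h1 := Subgroup.card_eq_card_quotient_mul_card_subgroup φ.ker
  have h2 : Nat.card (A ⧸ φ.ker) = Fintype.card F := by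
    rw [Nat.card_congr (QuotientGroup.quotientKerEquivOfSurjective φ hsurj).toEquiv]
    rw [Nat.card_congr Multiplicative.toAdd]
    exact Nat.card_eq_fintype_card
  have h3 : Nat.card φ.ker = Nat.card B := by
    rw [hker]
    exact Nat.card_congr (Subgroup.subgroupOfEquivOfLe hBA).toEquiv
  rw [h1, h2, h3, mul_comm]

namespace Setup

variable {ξ : P →* P} {q : ℕ} (S : Setup ξ q)
include S

/-- The square of a product. -/
theorem sq_mul (hω : ∀ x y : P, ⁅x, y⁆ ∈ S.Om) (x y : P) :
    x * y * (x * y) = ⁅y, x⁆ * (x * x) * (y * y) := by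
  calc x * y * (x * y) = x * (y * x) * y := by group
    _ = x * (⁅y, x⁆ * x * y) * y := by
        congr 2
        simp only [commutatorElement_def]; group
    _ = (x * ⁅y, x⁆) * x * y * y := by group
    _ = (⁅y, x⁆ * x) * x * y * y := by rw [S.Om_central (hω y x) x]
    _ = _ := by group

/-- The bound coming from Chevalley-Warning. -/
theorem card_le_cube (hq : Fintype.card F = q) (hsq : ∀ x : P, x * x ∈ S.Om) :
    Nat.card P ≤ q ^ 3 := by
  classical
  haveI := S.fin
  haveI hn : S.Om.Normal := S.Om_normal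
  obtain ⟨l, θ, hl, hθ⟩ := S.exists_Om_coord (F := F) hq
  have hω : ∀ x y : P, ⁅x, y⁆ ∈ S.Om := fun x y =>
    S.comm_mem_of_sq (hsq x) (hsq y) (hsq _)
  let G := P ⧸ S.Om
  have hcG : ∀ a b : G, a * b = b * a := by
    intro a b
    obtain ⟨x, rfl⟩ := QuotientGroup.mk_surjective a
    obtain ⟨y, rfl⟩ := QuotientGroup.mk_surjective b
    rw [← QuotientGroup.mk_mul, ← QuotientGroup.mk_mul, QuotientGroup.eq]
    have := hω y⁻¹ x⁻¹
    convert this using 1
    simp only [commutatorElement_def]; group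
  have heG : ∀ a : G, a * a = 1 := by
    intro a
    obtain ⟨x, rfl⟩ := QuotientGroup.mk_surjective a
    rw [← QuotientGroup.mk_mul, QuotientGroup.eq_one_iff]
    exact hsq x
  let _ : CommGroup G := { (inferInstance : Group G) with mul_comm := hcG }
  let V := Additive G
  let _ : Module (ZMod 2) V := AddCommGroup.zmodModule (n := 2) (by
    intro x
    rw [two_nsmul]
    exact heG (Additive.toMul x))
  let _ : Algebra (ZMod 2) F := ZMod.algebra F 2
  let Q : V → F := fun v =>
    θ ((Quotient.out (Additive.toMul v) : P) * (Quotient.out (Additive.toMul v) : P))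
  have hQ : ∀ x : P, Q (Additive.ofMul (x : G)) = θ (x * x) := by
    intro x
    have h1 : ((Quotient.out (x : G) : P) : G) = (x : G) := Quotient.out_eq _
    obtain ⟨w, hw⟩ : ∃ w ∈ S.Om, Quotient.out (x : G) = x * w := by
      refine ⟨x⁻¹ * Quotient.out (x : G), QuotientGroup.eq.mp h1.symm, by group⟩
    obtain ⟨hwO, hwe⟩ := hw
    show θ (Quotient.out (x : G) * Quotient.out (x : G)) = _
    rw [hwe]
    have e1 : x * w * (x * w) = x * x * (w * w) := by
      calc x * w * (x * w) = x * (w * x) * w := by group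
        _ = x * (x * w) * w := by rw [S.Om_central hwO x]
        _ = _ := by group
    have e2 : w * w = 1 := hwO
    rw [e1, e2, mul_one]
  by_contra hcon
  push Not at hcon
  have hcardP : Nat.card P = Nat.card G * q := by
    have := Subgroup.card_eq_card_quotient_mul_card_subgroup S.Om
    rwa [S.card_Om] at this
  have hq0 : 0 < q := by have := S.three; omega
  have hcard : Nat.card F ^ 2 < Nat.card V := by
    rw [Nat.card_eq_fintype_card, hq]
    show q ^ 2 < Nat.card G
    rw [hcardP] at hcon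
    have : q ^ 3 = q ^ 2 * q := by ring
    rw [this] at hcon
    exact lt_of_mul_lt_mul_right hcon (Nat.zero_le _)
  obtain ⟨v, hv, hv0⟩ := cw_quad Q
    (by
      have := hQ 1
      have h2 : Additive.ofMul ((1 : P) : G) = (0 : V) := rfl
      rw [h2] at this
      rw [this, mul_one]
      exact hθ.map_one)
    (by
      intro u u' w
      obtain ⟨x, hx⟩ := QuotientGroup.mk_surjective (Additive.toMul u)
      obtain ⟨y, hy⟩ := QuotientGroup.mk_surjective (Additive.toMul u')
      obtain ⟨z, hz⟩ := QuotientGroup.mk_surjective (Additive.toMul w)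
      have hu : u = Additive.ofMul (x : G) := by rw [hx]; rfl
      have hu' : u' = Additive.ofMul (y : G) := by rw [hy]; rfl
      have hw : w = Additive.ofMul (z : G) := by rw [hz]; rfl
      have hadd : ∀ a b : P, Additive.ofMul (a : G) + Additive.ofMul (b : G)
          = Additive.ofMul ((a * b : P) : G) := fun a b => rfl
      rw [hu, hu', hw]
      simp only [hadd, hQ]
      -- all terms in terms of commutators
      have e1 : ∀ a b : P, θ (a * b * (a * b)) = θ ⁅b, a⁆ + θ (a * a) + θ (b * b) := by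
        intro a b
        rw [S.sq_mul hω, hθ.add _ (S.Om.mul_mem (hω b a) (hsq a)) _ (hsq b),
          hθ.add _ (hω b a) _ (hsq a)]
      have e2 : θ ⁅z, x * y⁆ = θ ⁅z, x⁆ + θ ⁅z, y⁆ := by
        rw [S.comm_mul_right (hω z y), hθ.add _ (hω z x) _ (hω z y)]
      simp only [e1, e2]
      have h2 : (2 : F) = 0 := CharTwo.two_eq_zero
      linear_combination (θ ⁅y, x⁆ - θ (z * z)) * h2)
    hcard
  obtain ⟨x, hx⟩ := QuotientGroup.mk_surjective (Additive.toMul v)
  have hvx : v = Additive.ofMul (x : G) := by rw [hx]; rfl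
  rw [hvx, hQ] at hv0
  have hx1 : x * x = 1 := by
    have := (hθ.ker _ (hsq x)).mp hv0
    simpa using this
  apply hv
  rw [hvx]
  show Additive.ofMul (x : G) = Additive.ofMul (1 : G)
  congr 1
  exact (QuotientGroup.eq_one_iff x).mpr hx1

/-- A subgroup containing `Om` is normal when all commutators lie in `Om`. -/
theorem normal_of_Om_le (hsq : ∀ x : P, x * x ∈ S.Om) {B : Subgroup P} (hOB : S.Om ≤ B) :
    B.Normal := by
  constructor
  intro b hb g
  have hω : ⁅g, b⁆ ∈ S.Om := S.comm_mem_of_sq (hsq g) (hsq b) (hsq _)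
  have : g * b * g⁻¹ = ⁅g, b⁆ * b := by
    simp only [commutatorElement_def]; group
  rw [this]
  exact B.mul_mem (hOB hω) hb

/-- The next level in an invariant chain above `Om`. -/
theorem next_level (hq : Fintype.card F = q) (hsq : ∀ x : P, x * x ∈ S.Om) {B : Subgroup P}
    (hBi : IsInv ξ B) (hOB : S.Om ≤ B) (hBtop : B ≠ ⊤) :
    ∃ A : Subgroup P, IsInv ξ A ∧ B ≤ A ∧ A ≠ B ∧ Nat.card A = Nat.card B * q ∧
      ∃ (μ : F) (f : P → F), IsPrim μ ∧ Coord ξ A B f μ := by
  classical
  haveI := S.fin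
  let 𝒮 : Set (Subgroup P) := {C | IsInv ξ C ∧ B ≤ C ∧ C ≠ B}
  have h𝒮 : 𝒮.Nonempty := ⟨⊤, fun _ _ => trivial, le_top, Ne.symm hBtop⟩
  obtain ⟨A, hA⟩ := (Set.toFinite 𝒮).exists_minimal h𝒮
  obtain ⟨hAi, hBA, hAB⟩ := hA.prop
  have hBn := S.normal_of_Om_le hsq hOB
  obtain ⟨-, -, μ, f, hμ, hf⟩ := S.exists_coord (F := F) hq hBA (Ne.symm hAB) hAi hBi
    (Subgroup.Normal.subgroupOf hBn _)
    (by
      intro C hC hBC hCA
      by_cases h : C = B
      · exact Or.inl h
      · right
        exact le_antisymm hCA (hA.le_of_le ⟨hC, hBC, h⟩ hCA))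
  refine ⟨A, hAi, hBA, hAB, ?_, μ, f, hμ, hf⟩
  rw [card_coord hf hBA, hq]

theorem Om_ne_top (hna : ∃ u v : P, u * v ≠ v * u) : S.Om ≠ ⊤ := by
  obtain ⟨u, v, huv⟩ := hna
  intro h
  apply huv
  have : v ∈ S.Om := by rw [h]; trivial
  exact (S.Om_central this u)

/-- The order of a nonabelian group in the set-up. -/
theorem card_cases (hq : Fintype.card F = q) (hsq : ∀ x : P, x * x ∈ S.Om)
    (hna : ∃ u v : P, u * v ≠ v * u) : Nat.card P = q ^ 2 ∨ Nat.card P = q ^ 3 := by
  classical
  haveI := S.fin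
  have hle := S.card_le_cube hq hsq
  have h3 := S.three
  obtain ⟨A₁, hA₁i, hOA₁, hA₁O, hA₁c, -⟩ := S.next_level hq hsq S.Om_inv le_rfl (S.Om_ne_top hna)
  rw [S.card_Om] at hA₁c
  by_cases h1 : A₁ = ⊤
  · left
    rw [h1, Subgroup.card_top] at hA₁c
    rw [hA₁c]
    ring
  obtain ⟨A₂, hA₂i, hA₁A₂, hA₂A₁, hA₂c, -⟩ := S.next_level hq hsq hA₁i hOA₁ h1
  rw [hA₁c] at hA₂c
  by_cases h2 : A₂ = ⊤
  · right
    rw [h2, Subgroup.card_top] at hA₂c
    rw [hA₂c]
    ring
  exfalso
  obtain ⟨A₃, hA₃i, hA₂A₃, hA₃A₂, hA₃c, -⟩ := S.next_level hq hsq hA₂i (hOA₁.trans hA₁A₂) h2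
  rw [hA₂c] at hA₃c
  have h4 : Nat.card A₃ ≤ Nat.card P := Subgroup.card_le_card_group A₃
  rw [hA₃c] at h4
  have h5 : q ^ 3 < q * q * q * q := by
    have : q * q * q * q = q ^ 3 * q := by ring
    rw [this]
    have h6 : 0 < q ^ 3 := by positivity
    nlinarith
  omega

/-- The centre is `Om`. -/
theorem center_eq (hsq : ∀ x : P, x * x ∈ S.Om) (hna : ∃ u v : P, u * v ≠ v * u) :
    Subgroup.center P = S.Om := by
  obtain ⟨u, v, huv⟩ := hna
  ext z
  constructor
  · intro hz
    exact S.center_sub (H := ⊤) (fun _ _ => trivial) (fun x _ => hsq x)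
      ⟨u, trivial, v, trivial, huv⟩ trivial (fun w _ => Subgroup.mem_center_iff.mp hz w)
  · intro hz
    exact Subgroup.mem_center_iff.mpr (fun g => S.Om_central hz g)

end Setup

/-- A field of the right order. -/
theorem exists_field {q m : ℕ} (hq : q = 2 ^ m) (hm : m ≠ 0) :
    ∃ (K : Type) (_ : Field K) (_ : Fintype K) (_ : CharP K 2), Fintype.card K = q := by
  classical
  let _ : Fintype (GaloisField 2 m) := Fintype.ofFinite _
  refine ⟨GaloisField 2 m, inferInstance, inferInstance, inferInstance, ?_⟩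
  rw [← Nat.card_eq_fintype_card, GaloisField.card 2 m hm, hq]

end Cfsg.Agent.Lib.PGroup.SuzukiTwo
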